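import Groth.Agent.Lib.RGamma.Soft
import Groth.Agent.Lib.KInj.Derived
import Groth.Prelude.Def_DRing3
import Mathlib.Algebra.Category.ModuleCat.AB
import Mathlib.Algebra.Homology.DerivedCategory.Fractions

/-! `RΓ_I` computed on K-injective complexes and on complexes of soft modules (helper3). -/

universe u

set_option linter.style.haveILetI false

open CategoryTheory Limits

attribute [local instance] HasDerivedCategory.standard

namespace GrothLib.RGamma

variable {A : Type u} [CommRing A] (I : Ideal A)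

/-- `Γ_I` on complexes. -/
noncomputable abbrev gammaCx (C : CochainComplex (ModuleCat.{u} A) ℤ) : CochainComplex (ModuleCat.{u} A) ℤ :=
  ((DRing.gammaI I).mapHomologicalComplex (ComplexShape.up ℤ)).obj C

theorem incl_naturality {C C' : CochainComplex (ModuleCat.{u} A) ℤ} (φ : C ⟶ C') :
    ((DRing.gammaI I).mapHomologicalComplex (ComplexShape.up ℤ)).map φ ≫ incl I C' = incl I C ≫ φ := by
  ext n x
  rfl

theorem gammaIτ_app (C : CochainComplex (ModuleCat.{u} A) ℤ) :
    (DRing.gammaIτ I).app ((HomotopyCategory.quotient _ (ComplexShape.up ℤ)).obj C) =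
      (DRing.gammaIτ0 I).app C :=
  rfl

variable [DRing.HasRgammaI I]

theorem exists_iso (C : CochainComplex (ModuleCat.{u} A) ℤ) [C.IsKInjective] :
    ∃ e : (DRing.RgammaI I).obj (DerivedCategory.Q.obj C) ≅ DerivedCategory.Q.obj (gammaCx I C),
      e.hom ≫ DerivedCategory.Q.map (incl I C) = (DRing.RgammaIε I).app (DerivedCategory.Q.obj C) := by
  let X := (HomotopyCategory.quotient (ModuleCat.{u} A) (ComplexShape.up ℤ)).obj C
  let η := (DRing.gammaIKh I).totalRightDerivedUnit DerivedCategory.Qh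
    (HomotopyCategory.quasiIso (ModuleCat.{u} A) (ComplexShape.up ℤ))
  haveI hη : IsIso (η.app X) := by
    have h1 := KInj.isIso_unit_of_rightOrthogonal (CochainComplex.IsKInjective.rightOrthogonal C)
    have h2 := KInj.totalRightDerivedUnit_iso_hom (DRing.gammaIKh I) X
    haveI : IsIso ((DRing.gammaIKh I).map ((KInj.resAdj (ModuleCat.{u} A)).unit.app X)) :=
      Functor.map_isIso _ _
    haveI : IsIso (η.app X ≫ (KInj.totalRightDerivedIso (DRing.gammaIKh I)).hom.app
        (DerivedCategory.Qh.obj X)) := by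
      rw [h2]; infer_instance
    exact IsIso.of_isIso_comp_right (η.app X)
      ((KInj.totalRightDerivedIso (DRing.gammaIKh I)).hom.app (DerivedCategory.Qh.obj X))
  have hfac : η.app X ≫ (DRing.RgammaIε I).app (DerivedCategory.Qh.obj X) = (DRing.gammaIτ I).app X :=
    ((DRing.RgammaI I).rightDerived_fac_app η
      (HomotopyCategory.quasiIso (ModuleCat.{u} A) (ComplexShape.up ℤ)) (𝟭 (Dual.D A))
      (DRing.gammaIτ I ≫ (Functor.rightUnitor _).inv) X).trans (Category.comp_id _)
  let eQ := (DerivedCategory.quotientCompQhIso (ModuleCat.{u} A)).app C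
  let eG := (DerivedCategory.quotientCompQhIso (ModuleCat.{u} A)).app (gammaCx I C)
  let eF : DerivedCategory.Qh.obj ((HomotopyCategory.quotient _ (ComplexShape.up ℤ)).obj (gammaCx I C)) ≅
      (DRing.gammaIKh I).obj X :=
    (DerivedCategory.Qh.mapIso (((DRing.gammaI I).mapHomotopyCategoryFactors (ComplexShape.up ℤ)).app C)).symm
  refine ⟨(DRing.RgammaI I).mapIso eQ.symm ≪≫ (asIso (η.app X)).symm ≪≫ eF.symm ≪≫ eG, ?_⟩
  have hn := (DRing.RgammaIε I).naturality eQ.inv
  have hτ : (DRing.gammaIτ I).app X = eF.inv ≫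
      DerivedCategory.Qh.map ((HomotopyCategory.quotient _ (ComplexShape.up ℤ)).map (incl I C)) := by
    rw [gammaIτ_app]
    simp [DRing.gammaIτ0, eF, incl]
  have hQ : eG.hom ≫ DerivedCategory.Q.map (incl I C) =
      DerivedCategory.Qh.map ((HomotopyCategory.quotient _ (ComplexShape.up ℤ)).map (incl I C)) ≫ eQ.hom :=
    ((DerivedCategory.quotientCompQhIso (ModuleCat.{u} A)).hom.naturality (incl I C)).symm
  simp only [Iso.trans_hom, Functor.mapIso_hom, Iso.symm_hom, Category.assoc, asIso_inv]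
  rw [hQ, ← reassoc_of% hτ, ← reassoc_of% hfac, IsIso.inv_hom_id_assoc, reassoc_of% hn]
  simp

omit [DRing.HasRgammaI I] in
theorem exists_resolution (K : Dual.D A) :
    ∃ C : CochainComplex (ModuleCat.{u} A) ℤ, C.IsKInjective ∧ (∀ n, Injective (C.X n)) ∧
      Nonempty (DerivedCategory.Q.obj C ≅ K) := by
  haveI : (DerivedCategory.Q (C := ModuleCat.{u} A)).EssSurj :=
    Localization.essSurj _ (HomologicalComplex.quasiIso _ (ComplexShape.up ℤ))
  obtain ⟨C, i, hi, hC, hinj⟩ := KInj.exists_kInjective_resolution (ModuleCat.{u} A)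
    (DerivedCategory.Q.objPreimage K)
  haveI : IsIso (DerivedCategory.Q.map i) := Localization.inverts _
    (HomologicalComplex.quasiIso _ (ComplexShape.up ℤ)) _ hi
  exact ⟨C, hC, hinj, ⟨(asIso (DerivedCategory.Q.map i)).symm ≪≫ DerivedCategory.Q.objObjPreimageIso K⟩⟩

theorem exists_model (K : Dual.D A) :
    ∃ C : CochainComplex (ModuleCat.{u} A) ℤ, C.IsKInjective ∧ (∀ n, Injective (C.X n)) ∧
      ∃ (k : DerivedCategory.Q.obj C ≅ K)
        (e : (DRing.RgammaI I).obj K ≅ DerivedCategory.Q.obj (gammaCx I C)),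
        e.hom ≫ DerivedCategory.Q.map (incl I C) ≫ k.hom = (DRing.RgammaIε I).app K := by
  obtain ⟨C, hC, hinj, ⟨k⟩⟩ := exists_resolution K
  obtain ⟨e, he⟩ := exists_iso I C
  refine ⟨C, hC, hinj, k, (DRing.RgammaI I).mapIso k.symm ≪≫ e, ?_⟩
  simp only [Iso.trans_hom, Functor.mapIso_hom, Iso.symm_hom, Category.assoc]
  rw [reassoc_of% he]
  have hn := (DRing.RgammaIε I).naturality k.inv
  rw [reassoc_of% hn]
  simp

/-- The cohomology of `Q C` is that of `C`. -/
noncomputable def hdEquiv (C : CochainComplex (ModuleCat.{u} A) ℤ) (n : ℤ) :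
    Dual.HD A (DerivedCategory.Q.obj C) n ≃ₗ[A] C.homology n :=
  ((DerivedCategory.homologyFunctorFactors (ModuleCat.{u} A) n).app C).toLinearEquiv

omit [DRing.HasRgammaI I] in
/-- Iso-invariance of the cohomology modules. -/
noncomputable def hdIso {K L : Dual.D A} (e : K ≅ L) (n : ℤ) : Dual.HD A K n ≃ₗ[A] Dual.HD A L n :=
  ((DerivedCategory.homologyFunctor (ModuleCat.{u} A) n).mapIso e).toLinearEquiv

omit [DRing.HasRgammaI I] in
theorem isPowerTorsion_of_linearEquiv {M N : Type u} [AddCommGroup M] [Module A M] [AddCommGroup N]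
    [Module A N] (e : M ≃ₗ[A] N) (h : LocCoh.IsPowerTorsion I M) : LocCoh.IsPowerTorsion I N := fun x => by
  obtain ⟨n, hn⟩ := h (e.symm x)
  exact ⟨n, fun a ha => e.symm.injective (by rw [map_smul, hn a ha, map_zero])⟩

theorem isPowerTorsion_HD (K : Dual.D A) (n : ℤ) :
    LocCoh.IsPowerTorsion I (Dual.HD A ((DRing.RgammaI I).obj K) n) := by
  obtain ⟨C, _, -, k, e, -⟩ := exists_model I K
  exact isPowerTorsion_of_linearEquiv I ((hdEquiv (gammaCx I C) n).symm.trans (hdIso e n).symm)
    (isPowerTorsion_homology_gamma I C n)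

/-- Over a Noetherian ring `RΓ_I K → K` is invertible if the cohomology of `K` is torsion. -/
theorem isIso_ε [IsNoetherianRing A] (K : Dual.D A) (hK : ∀ i, LocCoh.IsPowerTorsion I (Dual.HD A K i)) :
    IsIso ((DRing.RgammaIε I).app K) := by
  obtain ⟨C, _, hinj, k, e, he⟩ := exists_model I K
  haveI := quasiIso_incl (fun n => haveI := hinj n; isSoft_of_injective (C.X n)) I
    (IsNoetherian.noetherian I) fun n => isPowerTorsion_of_linearEquiv I
      ((hdIso k n).symm.trans (hdEquiv C n)) (hK n)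
  rw [← he]
  infer_instance

theorem isZero_of_smul_bijective (K : CochainComplex (ModuleCat.{u} A) ℤ) (f : A) (hf : f ∈ I)
    (hK : ∀ n : ℤ, Function.Bijective (fun x : K.X n => f • x)) :
    IsZero ((DRing.RgammaI I).obj (DerivedCategory.Q.obj K)) := by
  obtain ⟨C, i, hi, hC, -⟩ := KInj.exists_kInjective_resolution (ModuleCat.{u} A) K
  haveI : IsIso (DerivedCategory.Q.map i) := Localization.inverts _
    (HomologicalComplex.quasiIso _ (ComplexShape.up ℤ)) _ hi
  obtain ⟨e, -⟩ := exists_iso I C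
  refine IsZero.of_iso ?_ ((DRing.RgammaI I).mapIso (asIso (DerivedCategory.Q.map i)) ≪≫ e)
  -- multiplication by `f` is a homotopy equivalence of `C`
  haveI hfi : IsIso (f • 𝟙 K) := by
    haveI : ∀ n, IsIso ((f • 𝟙 K).f n) := fun n =>
      (ConcreteCategory.isIso_iff_bijective _).2 (hK n)
    exact HomologicalComplex.Hom.isIso_of_components _
  have hq : QuasiIso (f • 𝟙 C) := by
    haveI : QuasiIso ((f • 𝟙 K) ≫ i) := inferInstance
    rw [show (f • 𝟙 K) ≫ i = i ≫ (f • 𝟙 C) by simp] at this
    exact quasiIso_of_comp_left i (f • 𝟙 C)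
  haveI : IsIso ((HomotopyCategory.quotient (ModuleCat.{u} A) (ComplexShape.up ℤ)).map (f • 𝟙 C)) := by
    haveI : IsIso (DerivedCategory.Qh.map
        ((HomotopyCategory.quotient (ModuleCat.{u} A) (ComplexShape.up ℤ)).map (f • 𝟙 C))) :=
      Localization.inverts DerivedCategory.Qh (HomotopyCategory.quasiIso _ (ComplexShape.up ℤ)) _
        ((HomotopyCategory.quotient_map_mem_quasiIso_iff _).2 hq)
    obtain ⟨g, hg⟩ := (CochainComplex.IsKInjective.Qh_map_bijective
      ((HomotopyCategory.quotient (ModuleCat.{u} A) (ComplexShape.up ℤ)).obj C) C).2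
      (inv (DerivedCategory.Qh.map
        ((HomotopyCategory.quotient (ModuleCat.{u} A) (ComplexShape.up ℤ)).map (f • 𝟙 C))))
    refine ⟨g, (CochainComplex.IsKInjective.Qh_map_bijective _ C).1 ?_,
      (CochainComplex.IsKInjective.Qh_map_bijective _ C).1 ?_⟩
    · rw [CategoryTheory.Functor.map_comp, hg, IsIso.hom_inv_id, CategoryTheory.Functor.map_id]
    · rw [CategoryTheory.Functor.map_comp, hg, IsIso.inv_hom_id, CategoryTheory.Functor.map_id]
  haveI : IsIso ((HomotopyCategory.quotient (ModuleCat.{u} A) (ComplexShape.up ℤ)).map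
      (((DRing.gammaI I).mapHomologicalComplex (ComplexShape.up ℤ)).map (f • 𝟙 C))) :=
    (NatIso.isIso_map_iff ((DRing.gammaI I).mapHomotopyCategoryFactors (ComplexShape.up ℤ)) (f • 𝟙 C)).1
      (Functor.map_isIso ((DRing.gammaI I).mapHomotopyCategory (ComplexShape.up ℤ))
        ((HomotopyCategory.quotient (ModuleCat.{u} A) (ComplexShape.up ℤ)).map (f • 𝟙 C)))
  have hsm : ((DRing.gammaI I).mapHomologicalComplex (ComplexShape.up ℤ)).map (f • 𝟙 C) =
      f • 𝟙 (gammaCx I C) := by
    ext n x
    rfl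
  have hq' : QuasiIso (f • 𝟙 (gammaCx I C)) := by
    rw [← hsm, ← HomologicalComplex.mem_quasiIso_iff, ← HomotopyCategory.quotient_map_mem_quasiIso_iff]
    exact MorphismProperty.of_isIso _ _
  refine (IsZero.iff_id_eq_zero _).2 ?_
  haveI : QuasiIso (0 : gammaCx I C ⟶ gammaCx I C) := by
    rw [quasiIso_iff]
    intro n
    rw [quasiIsoAt_iff_isIso_homologyMap]
    have hz : IsZero ((gammaCx I C).homology n) := by
      haveI : Subsingleton ((gammaCx I C).homology n) := subsingleton_of_forall_eq 0 fun c => by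
        have hinj : ∀ m : ℕ, ∀ c : (gammaCx I C).homology n, f ^ m • c = 0 → c = 0 := by
          intro m
          induction m with
          | zero => intro c hc; simpa using hc
          | succ m ih =>
            intro c hc
            refine ih c ((ConcreteCategory.bijective_of_isIso
              (HomologicalComplex.homologyMap (f • 𝟙 (gammaCx I C)) n)).1 ?_)
            rw [map_zero, homologyMap_smul_id, ← mul_smul, mul_comm, ← pow_succ, hc]
        obtain ⟨m, hm⟩ := isPowerTorsion_homology_gamma I C n c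
        exact hinj m c (hm _ (Ideal.pow_mem_pow hf m))
      exact ModuleCat.isZero_of_subsingleton _
    exact ⟨0, hz.eq_of_src _ _, hz.eq_of_src _ _⟩
  haveI : IsIso (DerivedCategory.Q.map (0 : gammaCx I C ⟶ gammaCx I C)) := Localization.inverts _
    (HomologicalComplex.quasiIso _ (ComplexShape.up ℤ)) _ this
  rw [← cancel_epi (DerivedCategory.Q.map (0 : gammaCx I C ⟶ gammaCx I C))]
  simp

end GrothLib.RGamma
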