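import Groth.Agent.Lib.RGamma.HatCx
import Groth.Agent.Lib.DCxRing.Stupid

/-!
# The derived completion of `RΓ_J(M)` is the termwise completed Čech complex
-/

set_option autoImplicit false
universe u

open CategoryTheory CategoryTheory.Limits CochainComplex Pretriangulated DerCA

attribute [local instance] HasDerivedCategory.standard

namespace GrothLib.RGamma

variable {A : Type u} [CommRing A] [IsNoetherianRing A] (I J : Ideal A)

/-- Dévissage along stupid truncations. -/
theorem isHatGood_of_terms {M : Type u} [AddCommGroup M] [Module A M] [Module.Finite A M] (E : DRing.Cx A)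
    (a b : ℤ) (hv : DRing.VanishesOutside E a b) (h : ∀ i, IsTensFlat (A := A) M (E.X i)) :
    IsHatGood I E := by
  suffices H : ∀ (k : ℕ) (n : ℤ), b + 1 ≤ n + k → IsHatGood I (DerBC.sigmaGE n E) by
    obtain ⟨k, hk⟩ : ∃ k : ℕ, b + 1 ≤ a + k := ⟨(b + 1 - a).toNat, by omega⟩
    haveI := DR.isIso_sigmaι a E fun i hi => hv i (Or.inl hi)
    exact isHatGood_of_iso I (asIso (DerBC.sigmaι a E)) (H k a hk)
  intro k
  induction k with
  | zero =>
    intro n hn
    refine isHatGood_of_isZero I ((IsZero.iff_id_eq_zero _).2 (HomologicalComplex.hom_ext _ _ fun i => ?_))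
    refine IsZero.eq_of_src ?_ _ _
    by_cases hi : i < n
    · exact DerBC.isZero_sigmaGE E hi
    · exact DR.isZero_sigmaGE_of n i E (hv i (Or.inr (by push_cast at hn; omega)))
  | succ k ih =>
    intro n hn
    refine isHatGood_of_ses I (ShortComplex.mk _ _ (DR.sigmaMap_top n E)) (fun i => ?_) (ih (n + 1) (by push_cast at hn; omega))
      (isHatGood_single I (E.X n) (h n) n)
    have hS := (DR.sigma_shortExact n E).map_of_exact (HomologicalComplex.eval (ModuleCat.{u} A) (ComplexShape.up ℤ) i)
    by_cases hi : i = n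
    · subst hi
      refine ⟨ShortComplex.Splitting.ofIsZeroOfIsIso _ (DerBC.isZero_sigmaGE E (by omega)) ?_⟩
      change IsIso ((DR.sigmaTop i E).f i)
      rw [DR.sigmaTop, HomologicalComplex.mkHomToSingle_f]
      have := DerBC.isIso_sigmaι_f (i := i) E le_rfl
      infer_instance
    · have hz : IsZero ((HomologicalComplex.single (ModuleCat.{u} A) (ComplexShape.up ℤ) n).obj (E.X n) |>.X i) :=
        HomologicalComplex.isZero_single_obj_X (ComplexShape.up ℤ) n _ i hi
      exact ⟨ShortComplex.Splitting.ofIsIsoOfIsZero _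
        (hS.isIso_f_iff.2 hz) hz⟩

variable (fs : List A) (hfs : Ideal.span {x | x ∈ fs} = J)

/-- The completed Čech complex is good. -/
theorem isHatGood_extCech (M : ModuleCat.{u} A) [Module.Finite A M] : IsHatGood I (extCech M fs) :=
  isHatGood_of_terms I _ 0 fs.length (fun i hi => ExtCech.isZero_X M fs i hi) (isTensFlat_X M fs)

theorem hom_ext_completion [DRing.HasDerivedCompletion I] {K E : Dual.D A} (hE : DRing.IsDerivedComplete I E)
    {a b : ((DRing.derivedCompletion I).obj K).obj ⟶ E}
    (h : DRing.toDerivedCompletion I K ≫ a = DRing.toDerivedCompletion I K ≫ b) : a = b :=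
  (DCpl.bijective_toDerivedCompletion I K hE).1 h

/-- A completion-equivalence into a derived complete object is the derived completion. -/
theorem exists_iso_of_isCEquiv [DRing.HasDerivedCompletion I] {K L : Dual.D A} (η : K ⟶ L) (h : IsCEquiv I η)
    (hL : DRing.IsDerivedComplete I L) :
    ∃ e : ((DRing.derivedCompletion I).obj K).obj ≅ L, DRing.toDerivedCompletion I K ≫ e.hom = η := by
  obtain ⟨s, hs⟩ : I.FG := IsNoetherian.noetherian I
  exact DCpl.exists_iso_completion I hs η
    (fun g hg => (DCpl.isDerivedComplete_iff I L).1 hL g (hs ▸ Ideal.subset_span hg))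
    fun E hE => h E (DCpl.isDerivedComplete_of_span hs E hE)

include hfs in
/-- The derived completion of `RΓ_J(M)`. -/
theorem exists_iso_completion_cech [DRing.HasRgammaI J] [DRing.HasDerivedCompletion I]
    (M : ModuleCat.{u} A) [Module.Finite A M] :
    ∃ (e : (DRing.RgammaI J).obj (Dual.inD A M) ≅ DerivedCategory.Q.obj (extCech M fs))
      (i : ((DRing.derivedCompletion I).obj ((DRing.RgammaI J).obj (Dual.inD A M))).obj ≅
        DerivedCategory.Q.obj (hatCx I (extCech M fs))),
      e.hom ≫ cechε fs M = (DRing.RgammaIε J).app (Dual.inD A M) ∧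
      DRing.toDerivedCompletion I _ ≫ i.hom = e.hom ≫ DerivedCategory.Q.map (toHat I (extCech M fs)) := by
  obtain ⟨e, he⟩ := exists_iso_cech J fs hfs M
  obtain ⟨h1, h2⟩ := isHatGood_extCech I fs M
  obtain ⟨i, hi⟩ := exists_iso_of_isCEquiv I (e.hom ≫ DerivedCategory.Q.map (toHat I (extCech M fs)))
    ((isCEquiv_of_isIso I e.hom).comp I h1) h2
  exact ⟨e, i, he, hi⟩

theorem isZero_hatCx (M : ModuleCat.{u} A) (p : ℤ) (hp : p < 0 ∨ (fs.length : ℤ) < p) :
    IsZero ((hatCx I (extCech M fs)).X p) :=
  (hatF I).map_isZero (ExtCech.isZero_X M fs p hp)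

end GrothLib.RGamma
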