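import Groth.Agent.Lib.RGamma.PiCx
import Groth.Agent.Lib.RGamma.CechHat
import Groth.Agent.Lib.SGA2Fin.CechFunctor
import Groth.Prelude.Def_DCoh2

/-!
# The completed Čech complex is a derived limit of the Čech complexes of the quotients
-/

set_option autoImplicit false
universe u

open CategoryTheory CategoryTheory.Limits CochainComplex Pretriangulated DerCA

attribute [local instance] HasDerivedCategory.standard

namespace GrothLib.RGamma

variable {A : Type u} [CommRing A] (I : Ideal A)

/-- The reduction of a complex term to the quotient. -/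
noncomputable def evQuot {X Y : Type u} [AddCommGroup X] [Module A X] [AddCommGroup Y] [Module A Y] (n : ℕ)
    (g : X →ₗ[A] Y) (hg : IsModQuot (I ^ n) g) : AdicCompletion I X →ₗ[A] Y :=
  ((I ^ n • (⊤ : Submodule A X)).liftQ g hg.2.ge).comp (AdicCompletion.eval I X n)

theorem evQuot_apply {X Y : Type u} [AddCommGroup X] [Module A X] [AddCommGroup Y] [Module A Y] (n : ℕ)
    (g : X →ₗ[A] Y) (hg : IsModQuot (I ^ n) g) (z : AdicCompletion I X) (x : X)
    (hx : Submodule.Quotient.mk x = z.val n) : evQuot I n g hg z = g x := by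
  change (I ^ n • (⊤ : Submodule A X)).liftQ g hg.2.ge (z.val n) = g x
  rw [← hx]
  rfl

variable (fs : List A) (M : ModuleCat.{u} A)

/-- The `n`-th quotient. -/
noncomputable abbrev quotMod (n : ℕ) : ModuleCat.{u} A := ModuleCat.of A (M ⧸ (I ^ n • ⊤ : Submodule A M))

noncomputable abbrev quotHom (n : ℕ) : M ⟶ quotMod I M n := ModuleCat.ofHom (I ^ n • ⊤ : Submodule A M).mkQ

noncomputable abbrev quotT (n : ℕ) : quotMod I M (n + 1) ⟶ quotMod I M n :=
  ModuleCat.ofHom (Submodule.mapQ (I ^ (n + 1) • ⊤ : Submodule A M) (I ^ n • ⊤ : Submodule A M) LinearMap.id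
    (Submodule.smul_mono (Ideal.pow_le_pow_right (Nat.le_succ n)) le_rfl))

theorem isModQuot_quotHom (n : ℕ) : IsModQuot (I ^ n) (quotHom I M n).hom :=
  ⟨Submodule.mkQ_surjective _, Submodule.ker_mkQ _⟩

/-- The reduced Čech complex. -/
noncomputable abbrev redCx (n : ℕ) : DRing.Cx A := extCech (quotMod I M n) fs

theorem red_compat (n : ℕ) (p : ℤ) (x : (extCech M fs).X p) :
    ((ExtCech.cxMap (quotT I M n) fs).f p).hom (((ExtCech.cxMap (quotHom I M (n + 1)) fs).f p).hom x) =
      ((ExtCech.cxMap (quotHom I M n) fs).f p).hom x := by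
  have h := (SGA2Fin.cxF fs).map_comp (quotHom I M (n + 1)) (quotT I M n)
  rw [show quotHom I M (n + 1) ≫ quotT I M n = quotHom I M n from rfl] at h
  exact (ConcreteCategory.congr_hom
    (congrArg (fun φ : extCech M fs ⟶ extCech (quotMod I M n) fs => φ.f p) h) x).symm

/-- The projection of the completed complex. -/
noncomputable def hatPr (n : ℕ) : hatCx I (extCech M fs) ⟶ redCx I fs M n where
  f p := ModuleCat.ofHom (evQuot I n _ (isModQuot_cxMap (I ^ n) (quotHom I M n) (isModQuot_quotHom I M n) fs p))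
  comm' p q _ := by
    refine ModuleCat.hom_ext (LinearMap.ext fun z => ?_)
    let z' : AdicCompletion I ((extCech M fs).X p) := z
    obtain ⟨x, hx⟩ := Submodule.Quotient.mk_surjective _ (z'.val n)
    have hq := isModQuot_cxMap (I ^ n) (quotHom I M n) (isModQuot_quotHom I M n) fs
    change ((redCx I fs M n).d p q).hom (evQuot I n _ (hq p) z') =
      evQuot I n _ (hq q) (AdicCompletion.map I ((extCech M fs).d p q).hom z')
    rw [evQuot_apply I n _ (hq p) z' x hx, evQuot_apply I n _ (hq q) _ (((extCech M fs).d p q).hom x) (by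
      rw [AdicCompletion.map_val_apply, ← hx]; rfl)]
    exact ConcreteCategory.congr_hom ((ExtCech.cxMap (quotHom I M n) fs).comm p q) x

theorem hatPr_compat (n : ℕ) :
    hatPr I fs M (n + 1) ≫ ExtCech.cxMap (quotT I M n) fs = hatPr I fs M n := by
  ext p : 1
  refine ModuleCat.hom_ext (LinearMap.ext fun z => ?_)
  let z' : AdicCompletion I ((extCech M fs).X p) := z
  obtain ⟨x, hx⟩ := Submodule.Quotient.mk_surjective _ (z'.val (n + 1))
  have hq := fun k => isModQuot_cxMap (I ^ k) (quotHom I M k) (isModQuot_quotHom I M k) fs p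
  change ((ExtCech.cxMap (quotT I M n) fs).f p).hom (evQuot I (n + 1) _ (hq (n + 1)) z') = evQuot I n _ (hq n) z'
  rw [evQuot_apply I (n + 1) _ (hq (n + 1)) z' x hx, evQuot_apply I n _ (hq n) z' x ?_]
  · exact red_compat I fs M n p x
  · rw [← z'.property (Nat.le_succ n), ← hx]
    rfl

/-- "Identity minus shift". -/
noncomputable def shiftMap : piCx (redCx I fs M) ⟶ piCx (redCx I fs M) :=
  piLift _ fun n => piProj (redCx I fs M) n - piProj (redCx I fs M) (n + 1) ≫ ExtCech.cxMap (quotT I M n) fs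

theorem lift_shift_zero : piLift (redCx I fs M) (hatPr I fs M) ≫ shiftMap I fs M = 0 := by
  ext p : 1
  refine ModuleCat.hom_ext (LinearMap.ext fun z => funext fun n => ?_)
  have h := congrArg (fun φ : hatCx I (extCech M fs) ⟶ redCx I fs M n => (φ.f p).hom z) (hatPr_compat I fs M n)
  change ((hatPr I fs M n).f p).hom z -
    ((ExtCech.cxMap (quotT I M n) fs).f p).hom (((hatPr I fs M (n + 1)).f p).hom z) = 0
  exact sub_eq_zero.2 h.symm

noncomputable abbrev rlimSC : ShortComplex (DRing.Cx A) :=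
  ShortComplex.mk (piLift (redCx I fs M) (hatPr I fs M)) (shiftMap I fs M) (lift_shift_zero I fs M)

theorem rlimSC_shortExact : (rlimSC I fs M).ShortExact := by
  refine HomologicalComplex.shortExact_of_degreewise_shortExact _ fun p => ?_
  let X := (extCech M fs).X p
  have hq := fun n => isModQuot_cxMap (I ^ n) (quotHom I M n) (isModQuot_quotHom I M n) fs p
  refine { exact := ?_, mono_f := ?_, epi_g := ?_ }
  · rw [ShortComplex.moduleCat_exact_iff]
    intro y hy
    let y' : ∀ n, (redCx I fs M n).X p := y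
    choose x hx using fun n => (hq n).1 (y' n)
    have hc : ∀ n, x n ≡ x (n + 1) [SMOD (I ^ n • ⊤ : Submodule A X)] := fun n => by
      rw [SModEq.sub_mem]
      refine (hq n).2.le ?_
      rw [LinearMap.mem_ker, map_sub, hx, ← red_compat, hx]
      exact congrFun hy n
    refine ⟨AdicCompletion.mk I X (AdicCompletion.AdicCauchySequence.mk I X x hc), funext fun n => ?_⟩
    change evQuot I n _ (hq n) (AdicCompletion.mk I X _) = y' n
    rw [evQuot_apply I n _ (hq n) _ (x n) rfl]
    exact hx n
  · refine (ModuleCat.mono_iff_injective _).2 ((injective_iff_map_eq_zero _).2 fun z hz => ?_)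
    let z' : AdicCompletion I X := z
    refine show z' = 0 from AdicCompletion.ext fun n => ?_
    obtain ⟨w, hw⟩ := Submodule.Quotient.mk_surjective _ (z'.val n)
    have h0 : ((ExtCech.cxMap (quotHom I M n) fs).f p).hom w = 0 :=
      (evQuot_apply I n _ (hq n) z' w hw).symm.trans (congrFun hz n)
    rw [← hw]
    exact (Submodule.Quotient.mk_eq_zero _).2 ((hq n).2.le h0)
  · refine (ModuleCat.epi_iff_surjective _).2 fun z => ?_
    let z' : ∀ n, (redCx I fs M n).X p := z
    have hs : ∀ n, Function.Surjective ((ExtCech.cxMap (quotT I M n) fs).f p).hom := fun n y => by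
      obtain ⟨x, hx⟩ := (hq n).1 y
      exact ⟨_, (red_compat I fs M n p x).trans hx⟩
    choose r hr using hs
    let w : ∀ n, (redCx I fs M n).X p := fun n => Nat.rec (motive := fun n => (redCx I fs M n).X p) 0
      (fun n v => r n (v - z' n)) n
    refine ⟨w, funext fun n => ?_⟩
    change w n - ((ExtCech.cxMap (quotT I M n) fs).f p).hom (w (n + 1)) = z' n
    rw [show w (n + 1) = r n (w n - z' n) from rfl, hr, sub_sub_cancel]

variable [IsNoetherianRing A] (J : Ideal A) [DRing.HasRgammaI J] [DRing.HasDerivedCompletion I]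
  (hfs : Ideal.span {x | x ∈ fs} = J) [Module.Finite A M] [∀ K : ℕ → Dual.D A, HasProduct K]

include hfs in
/-- The derived completion of `RΓ_J(M)` is a derived limit. -/
theorem isRlim_cech :
    DCoh.IsRlim (fun n : ℕ => (DRing.RgammaI J).obj (Dual.inD A (quotMod I M n)))
      (fun n : ℕ => (DRing.RgammaI J).map ((DerivedCategory.singleFunctor (ModuleCat.{u} A) 0).map (quotT I M n)))
      ((DRing.derivedCompletion I).obj ((DRing.RgammaI J).obj (Dual.inD A M))).obj := by
  obtain ⟨-, i, -, -⟩ := exists_iso_completion_cech I J fs hfs M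
  choose e he using fun n => exists_iso_cech J fs hfs (quotMod I M n)
  let K : ℕ → Dual.D A := fun n => (DRing.RgammaI J).obj (Dual.inD A (quotMod I M n))
  let D := redCx I fs M
  obtain ⟨φ, hφ⟩ := exists_iso_product D
  let ψ : (∏ᶜ fun n => DRing.toD (D n)) ≅ ∏ᶜ K :=
    { hom := Pi.lift fun n => Pi.π _ n ≫ (e n).inv
      inv := Pi.lift fun n => Pi.π _ n ≫ (e n).hom
      hom_inv_id := Pi.hom_ext _ _ fun n => by simp
      inv_hom_id := Pi.hom_ext _ _ fun n => by simp }
  let Φ := φ ≪≫ ψ
  have hΦ : ∀ n, Φ.hom ≫ Pi.π K n = DerivedCategory.Q.map (piProj D n) ≫ (e n).inv := fun n => by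
    simp [Φ, ψ, reassoc_of% (hφ n)]
  have hcomm : DerivedCategory.Q.map (shiftMap I fs M) ≫ Φ.hom =
      Φ.hom ≫ Pi.lift fun n => Pi.π K n - Pi.π K (n + 1) ≫
        (DRing.RgammaI J).map ((DerivedCategory.singleFunctor (ModuleCat.{u} A) 0).map (quotT I M n)) := by
    refine Pi.hom_ext _ _ fun n => ?_
    have hn : DerivedCategory.Q.map (ExtCech.cxMap (quotT I M n) fs) ≫ (e n).inv =
        (e (n + 1)).inv ≫
          (DRing.RgammaI J).map ((DerivedCategory.singleFunctor (ModuleCat.{u} A) 0).map (quotT I M n)) := by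
      rw [Iso.eq_inv_comp, ← Category.assoc, Iso.comp_inv_eq]
      exact (cech_iso_naturality J fs hfs _ (quotT I M n) (e (n + 1)) (he (n + 1)) (e n) (he n)).symm
    simp only [Category.assoc, Pi.lift_π, Preadditive.comp_sub]
    rw [hΦ, reassoc_of% (hΦ (n + 1)), ← Category.assoc, ← Functor.map_comp,
      show shiftMap I fs M ≫ piProj D n = piProj D n - piProj D (n + 1) ≫ ExtCech.cxMap (quotT I M n) fs from rfl,
      Functor.map_sub, Preadditive.sub_comp, Functor.map_comp, Category.assoc, hn]
  have hse := rlimSC_shortExact I fs M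
  refine ⟨i.hom ≫ DerivedCategory.Q.map (rlimSC I fs M).f ≫ Φ.hom,
    Φ.inv ≫ DerivedCategory.triangleOfSESδ hse ≫ i.inv⟦(1 : ℤ)⟧', isomorphic_distinguished _
      (DerivedCategory.triangleOfSES_distinguished hse) _ (Triangle.isoMk _ _ i Φ.symm Φ.symm ?_ ?_ ?_)⟩
  · change (i.hom ≫ DerivedCategory.Q.map _ ≫ Φ.hom) ≫ Φ.inv = i.hom ≫ DerivedCategory.Q.map _
    rw [Category.assoc, Category.assoc, Φ.hom_inv_id, Category.comp_id]
  · change (Pi.lift _) ≫ Φ.inv = Φ.inv ≫ DerivedCategory.Q.map (shiftMap I fs M)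
    rw [Iso.eq_inv_comp, ← Category.assoc, Iso.comp_inv_eq]
    exact hcomm.symm
  · change (Φ.inv ≫ DerivedCategory.triangleOfSESδ hse ≫ i.inv⟦(1 : ℤ)⟧') ≫ i.hom⟦(1 : ℤ)⟧' =
      Φ.inv ≫ DerivedCategory.triangleOfSESδ hse
    rw [Category.assoc, Category.assoc, ← CategoryTheory.Functor.map_comp, Iso.inv_hom_id,
      CategoryTheory.Functor.map_id, Category.comp_id]

omit [∀ K : ℕ → Dual.D A, HasProduct K] in
include hfs in
theorem subsingleton_HD_completion_neg (q : ℤ) (hq : q < 0) :
    Subsingleton (Dual.HD A ((DRing.derivedCompletion I).obj ((DRing.RgammaI J).obj (Dual.inD A M))).obj q) := by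
  obtain ⟨-, i, -, -⟩ := exists_iso_completion_cech I J fs hfs M
  haveI := ModuleCat.subsingleton_of_isZero (HomologicalComplex.ExactAt.isZero_homology
    (ShortComplex.exact_of_isZero_X₂ _ (isZero_hatCx I fs M q (Or.inl hq))) :
      IsZero ((hatCx I (extCech M fs)).homology q))
  exact ((hdIso i q).trans (hdEquiv (hatCx I (extCech M fs)) q)).subsingleton

end GrothLib.RGamma
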