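import Groth.Agent.Lib.RGamma.Compute
import Groth.Agent.Lib.DCxRing.FromSingle
import Groth.Prelude.Def_DualLC
import Mathlib.Algebra.Category.ModuleCat.FilteredColimits
import Mathlib.CategoryTheory.Limits.ConcreteCategory.Basic
import Mathlib.Algebra.Homology.DerivedCategory.Linear

/-! `colim Hom(A/I^n, Q E) = H^0(Γ_I E)` for K-injective `E` (helper3). -/

universe u

set_option linter.style.haveILetI false

open CategoryTheory Limits Opposite HomologicalComplex

attribute [local instance] HasDerivedCategory.standard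

namespace GrothLib.RGamma

variable {A : Type u} [CommRing A] (I : Ideal A)

instance : PreservesColimitsOfShape (ℕᵒᵖ)ᵒᵖ (forget (ModuleCat.{u + 1} A)) :=
  haveI : PreservesFilteredColimitsOfSize.{0, 0} (forget AddCommGrpCat.{u + 1}) :=
    preservesSmallestFilteredColimits_of_preservesFilteredColimits _
  inferInstanceAs (PreservesColimitsOfShape (ℕᵒᵖ)ᵒᵖ
    (forget₂ (ModuleCat.{u + 1} A) AddCommGrpCat.{u + 1} ⋙ forget AddCommGrpCat.{u + 1}))

/-- `A/I^n`. -/
noncomputable abbrev qp (n : ℕ) : ModuleCat.{u} A := ModuleCat.of A (A ⧸ I ^ n)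

/-- `A/I^n` in degree `0`. -/
noncomputable abbrev qpCx (n : ℕ) : CochainComplex (ModuleCat.{u} A) ℤ :=
  (HomologicalComplex.single (ModuleCat.{u} A) (ComplexShape.up ℤ) 0).obj (qp I n)

variable {E : CochainComplex (ModuleCat.{u} A) ℤ}

theorem exists_lift_Q [E.IsKInjective] {P : CochainComplex (ModuleCat.{u} A) ℤ}
    (g : DerivedCategory.Q.obj P ⟶ DerivedCategory.Q.obj E) : ∃ f : P ⟶ E, DerivedCategory.Q.map f = g :=
  DR.exists_lift_inj g

theorem homotopy_of_Q_eq [E.IsKInjective] {P : CochainComplex (ModuleCat.{u} A) ℤ} {f g : P ⟶ E}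
    (h : DerivedCategory.Q.map f = DerivedCategory.Q.map g) : Nonempty (Homotopy f g) := by
  refine ⟨HomotopyCategory.homotopyOfEq _ _ ((CochainComplex.IsKInjective.Qh_map_bijective _ E).1 ?_)⟩
  let eA := DerivedCategory.quotientCompQhIso (ModuleCat.{u} A)
  have hu := eA.hom.naturality f
  have hv := eA.hom.naturality g
  rw [h] at hu
  exact (cancel_mono (eA.hom.app E)).1 (hu.trans hv.symm)

/-- The image of `1`. -/
noncomputable def el (n : ℕ) (f : qpCx I n ⟶ E) : E.X 0 :=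
  f.f 0 ((singleObjXSelf (ComplexShape.up ℤ) 0 (qp I n)).inv (Ideal.Quotient.mk (I ^ n) 1))

theorem smul_el (n : ℕ) (f : qpCx I n ⟶ E) (a : A) (ha : a ∈ I ^ n) : a • el I n f = 0 := by
  unfold el
  have h0 : a • (Ideal.Quotient.mk (I ^ n) 1 : qp I n) = 0 := by
    change (Ideal.Quotient.mk (I ^ n)) (a * 1) = 0
    rw [mul_one, Ideal.Quotient.eq_zero_iff_mem]
    exact ha
  rw [← map_smul, ← map_smul, h0, map_zero, map_zero]

theorem d_el (n : ℕ) (f : qpCx I n ⟶ E) : E.d 0 (0 + 1) (el I n f) = 0 := by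
  unfold el
  rw [← ConcreteCategory.comp_apply, f.comm, ConcreteCategory.comp_apply,
    show (qpCx I n).d 0 (0 + 1) = 0 from (isZero_single_obj_X _ _ _ _ (by omega)).eq_of_tgt _ _]
  exact map_zero _

/-- The corresponding cocycle of `Γ_I E`. -/
noncomputable def elΓ (n : ℕ) (f : qpCx I n ⟶ E) : (gammaCx I E).X 0 :=
  ⟨el I n f, n, smul_el I n f⟩

theorem d_elΓ (n : ℕ) (f : qpCx I n ⟶ E) : (gammaCx I E).d 0 (0 + 1) (elΓ I n f) = 0 :=
  Subtype.ext (d_el I n f)

theorem cls_eq_of_homotopy {n : ℕ} {f g : qpCx I n ⟶ E} (h : Homotopy f g) :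
    cls 0 (elΓ I n f) (d_elΓ I n f) = cls 0 (elΓ I n g) (d_elΓ I n g) := by
  rw [← sub_eq_zero]
  have hsub : ∀ (x y : (gammaCx I E).X 0) (hx hy),
      cls 0 x hx - cls 0 y hy = cls (K := gammaCx I E) 0 (x - y) (by rw [map_sub, hx, hy, sub_zero]) :=
    fun x y hx hy => by
      rw [sub_eq_iff_eq_add, ← cls_add, cls_congr (sub_add_cancel x y).symm hx]
  rw [hsub, cls_eq_zero_iff (show (-1 : ℤ) + 1 = 0 by omega)]
  let v : E.X (-1) := h.hom 0 (-1) ((singleObjXSelf (ComplexShape.up ℤ) 0 (qp I n)).inv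
    (Ideal.Quotient.mk (I ^ n) 1))
  have hv : ∀ a ∈ I ^ n, a • v = 0 := fun a ha => by
    have h0 : a • (Ideal.Quotient.mk (I ^ n) 1 : qp I n) = 0 := by
      change (Ideal.Quotient.mk (I ^ n)) (a * 1) = 0
      rw [mul_one, Ideal.Quotient.eq_zero_iff_mem]
      exact ha
    simp only [v, ← map_smul, h0, map_zero]
  refine ⟨⟨v, n, hv⟩, Subtype.ext ?_⟩
  change E.d (-1) 0 v = el I n f - el I n g
  have hc := h.comm 0
  rw [dNext_eq _ (show (ComplexShape.up ℤ).Rel 0 (0 + 1) from rfl),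
    prevD_eq _ (show (ComplexShape.up ℤ).Rel (-1) 0 from by simp),
    show (qpCx I n).d 0 (0 + 1) = 0 from (isZero_single_obj_X _ _ _ _ (by omega)).eq_of_tgt _ _,
    zero_comp, zero_add] at hc
  have hc' := ConcreteCategory.congr_hom hc ((singleObjXSelf (ComplexShape.up ℤ) 0 (qp I n)).inv
    (Ideal.Quotient.mk (I ^ n) 1))
  change el I n f = E.d (-1) 0 v + el I n g at hc'
  rw [hc', add_sub_cancel_right]

/-- The diagram whose colimit is `HDI`. -/
noncomputable abbrev diag (L : Dual.D A) : (ℕᵒᵖ)ᵒᵖ ⥤ ModuleCat.{u + 1} A :=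
  (localCohomology.ringModIdeals (localCohomology.idealPowersDiagram I) ⋙
      DerivedCategory.singleFunctor (ModuleCat.{u} A) 0).op ⋙ (linearYoneda A (Dual.D A)).obj L

variable [E.IsKInjective]

variable (E) in
/-- The class of a morphism. -/
noncomputable def θ (n : ℕ) :
    (DerivedCategory.Q.obj (qpCx I n) ⟶ DerivedCategory.Q.obj E) →ₗ[A] (gammaCx I E).homology 0 where
  toFun φ := cls 0 (elΓ I n (exists_lift_Q φ).choose) (d_elΓ I n _)
  map_add' φ ψ := by
    obtain ⟨h⟩ := homotopy_of_Q_eq (f := (exists_lift_Q (φ + ψ)).choose)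
      (g := (exists_lift_Q φ).choose + (exists_lift_Q ψ).choose) (by
        rw [Functor.map_add, (exists_lift_Q φ).choose_spec, (exists_lift_Q ψ).choose_spec,
          (exists_lift_Q (φ + ψ)).choose_spec])
    rw [cls_eq_of_homotopy I h, ← cls_add]
    rfl
  map_smul' r φ := by
    obtain ⟨h⟩ := homotopy_of_Q_eq (f := (exists_lift_Q (r • φ)).choose)
      (g := r • (exists_lift_Q φ).choose) (by
        rw [Functor.map_smul, (exists_lift_Q φ).choose_spec, (exists_lift_Q (r • φ)).choose_spec])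
    rw [cls_eq_of_homotopy I h, RingHom.id_apply, ← cls_smul]
    rfl

theorem θ_map (n : ℕ) (f : qpCx I n ⟶ E) :
    θ I E n (DerivedCategory.Q.map f) = cls 0 (elΓ I n f) (d_elΓ I n f) :=
  cls_eq_of_homotopy I (homotopy_of_Q_eq (exists_lift_Q (DerivedCategory.Q.map f)).choose_spec).some

/-- The projection. -/
noncomputable def qpHom {i j : (ℕᵒᵖ)ᵒᵖ} (g : i ⟶ j) : qp I j.unop.unop ⟶ qp I i.unop.unop :=
  (localCohomology.ringModIdeals (localCohomology.idealPowersDiagram I)).map g.unop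

/-- The projection on complexes. -/
noncomputable def qpMap {i j : (ℕᵒᵖ)ᵒᵖ} (g : i ⟶ j) : qpCx I j.unop.unop ⟶ qpCx I i.unop.unop :=
  (HomologicalComplex.single (ModuleCat.{u} A) (ComplexShape.up ℤ) 0).map (qpHom I g)

omit [E.IsKInjective] in
theorem diag_map {i j : (ℕᵒᵖ)ᵒᵖ} (g : i ⟶ j) (f : qpCx I i.unop.unop ⟶ E) :
    (diag I (DerivedCategory.Q.obj E)).map g (DerivedCategory.Q.map f) =
      DerivedCategory.Q.map (qpMap I g ≫ f) := by
  rw [CategoryTheory.Functor.map_comp]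
  rfl

omit [E.IsKInjective] in
theorem el_qpMap {i j : (ℕᵒᵖ)ᵒᵖ} (g : i ⟶ j) (f : qpCx I i.unop.unop ⟶ E) :
    el I j.unop.unop (qpMap I g ≫ f) = el I i.unop.unop f := by
  unfold el qpMap
  rw [HomologicalComplex.comp_f, single_map_f_self]
  simp only [ConcreteCategory.comp_apply, Iso.inv_hom_id_apply]
  rfl

theorem θ_diag_map {i j : (ℕᵒᵖ)ᵒᵖ} (g : i ⟶ j)
    (φ : (diag I (DerivedCategory.Q.obj E)).obj i) :
    θ I E j.unop.unop ((diag I (DerivedCategory.Q.obj E)).map g φ) = θ I E i.unop.unop φ := by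
  obtain ⟨f, rfl⟩ := exists_lift_Q (P := qpCx I i.unop.unop) φ
  refine (congrArg (θ I E j.unop.unop) (diag_map I g f)).trans ?_
  rw [θ_map, θ_map]
  exact cls_congr (Subtype.ext (el_qpMap I g f)) _

theorem exists_θ_eq (c : (gammaCx I E).homology 0) : ∃ n, ∃ φ, θ I E n φ = c := by
  obtain ⟨x, hx, rfl⟩ := cls_surjective 0 c
  obtain ⟨n, hn⟩ := x.2
  let g : (A ⧸ I ^ n) →ₗ[A] E.X 0 := (I ^ n).liftQ (LinearMap.toSpanSingleton A _ x.1)
    fun a ha => hn a ha
  let f : qpCx I n ⟶ E := mkHomFromSingle (ModuleCat.ofHom g) fun k hk => by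
    obtain rfl : 0 + 1 = k := hk
    refine ModuleCat.hom_ext (Submodule.linearMap_qext _ (LinearMap.ext fun r => ?_))
    change E.d 0 (0 + 1) (r • x.1) = 0
    rw [map_smul, show E.d 0 (0 + 1) x.1 = 0 from congrArg Subtype.val hx, smul_zero]
  refine ⟨n, DerivedCategory.Q.map f, ?_⟩
  rw [θ_map]
  refine cls_congr (Subtype.ext ?_) _
  change el I n f = x.1
  unfold el
  rw [mkHomFromSingle_f, ConcreteCategory.comp_apply, Iso.inv_hom_id_apply]
  exact one_smul A x.1

theorem exists_map_eq_zero_of_θ {i : (ℕᵒᵖ)ᵒᵖ} (φ : (diag I (DerivedCategory.Q.obj E)).obj i)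
    (h : θ I E i.unop.unop φ = 0) :
    ∃ j, ∃ g : i ⟶ j, (diag I (DerivedCategory.Q.obj E)).map g φ = 0 := by
  obtain ⟨f, rfl⟩ := exists_lift_Q (P := qpCx I i.unop.unop) φ
  rw [θ_map, cls_eq_zero_iff (show (-1 : ℤ) + 1 = 0 by omega)] at h
  obtain ⟨⟨y, m, hm⟩, hy⟩ := h
  have hy' : E.d (-1) 0 y = el I i.unop.unop f := congrArg Subtype.val hy
  let j : (ℕᵒᵖ)ᵒᵖ := op (op (max i.unop.unop m))
  let g : i ⟶ j := (homOfLE (le_max_left i.unop.unop m)).op.op
  refine ⟨j, g, ?_⟩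
  refine (diag_map I g f).trans ?_
  set f' := qpMap I g ≫ f with hf'
  let k : (A ⧸ I ^ (max i.unop.unop m)) →ₗ[A] E.X (-1) :=
    (I ^ (max i.unop.unop m)).liftQ (LinearMap.toSpanSingleton A _ y)
      fun a ha => hm a (Ideal.pow_le_pow_right (le_max_right _ _) ha)
  let η := singleObjXSelf (ComplexShape.up ℤ) 0 (qp I (max i.unop.unop m))
  let hom : ∀ p q, (ComplexShape.up ℤ).Rel q p → ((qpCx I (max i.unop.unop m)).X p ⟶ E.X q) :=
    fun p q hqp =>
    if hp : p = 0 then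
      eqToHom (congrArg (qpCx I (max i.unop.unop m)).X hp) ≫ η.hom ≫ ModuleCat.ofHom k ≫
        eqToHom (congrArg E.X (show (-1 : ℤ) = q by simp only [ComplexShape.up_Rel] at hqp; omega))
    else 0
  have hnull : f' = Homotopy.nullHomotopicMap' hom := by
    refine from_single_hom_ext ?_
    rw [Homotopy.nullHomotopicMap'_f (show (ComplexShape.up ℤ).Rel (-1) 0 from by simp)
      (show (ComplexShape.up ℤ).Rel 0 (0 + 1) from rfl),
      show (qpCx I (max i.unop.unop m)).d 0 (0 + 1) = 0 from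
        (isZero_single_obj_X _ _ _ _ (by omega)).eq_of_tgt _ _,
      zero_comp, zero_add]
    simp only [hom, dif_pos, eqToHom_refl, Category.id_comp, Category.comp_id, Category.assoc]
    rw [← cancel_epi η.inv]
    simp only [Iso.inv_hom_id_assoc]
    refine ModuleCat.hom_ext (Submodule.linearMap_qext _ (LinearMap.ext_ring ?_))
    change el I j.unop.unop f' = E.d (-1) 0 ((1 : A) • y)
    rw [one_smul, hy', hf', el_qpMap]
  rw [hnull, DerivedCategory.Q_map_eq_of_homotopy _ (Homotopy.nullHomotopy' hom)]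
  exact CategoryTheory.Functor.map_zero _ _ _

variable (E) in
/-- The cocone. -/
noncomputable def θCocone : Cocone (diag I (DerivedCategory.Q.obj E)) where
  pt := ModuleCat.of A (ULift.{u + 1} ((gammaCx I E).homology 0))
  ι :=
    { app := fun i => ModuleCat.ofHom (ULift.moduleEquiv.symm.toLinearMap ∘ₗ θ I E i.unop.unop)
      naturality := fun i j g => ModuleCat.hom_ext (LinearMap.ext fun φ => by
        exact congrArg ULift.up (θ_diag_map I g φ)) }

theorem exists_linearEquiv :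
    Nonempty ((colimit (C := ModuleCat.{u + 1} A) (diag I (DerivedCategory.Q.obj E)) : ModuleCat.{u + 1} A) ≃ₗ[A]
      (gammaCx I E).homology 0) := by
  let d := (colimit.desc _ (θCocone I E)).hom
  have hd : ∀ i φ, d (colimit.ι (diag I (DerivedCategory.Q.obj E)) i φ) = ULift.up (θ I E i.unop.unop φ) :=
    fun i φ => ConcreteCategory.congr_hom (colimit.ι_desc (θCocone I E) i) φ
  refine ⟨(LinearEquiv.ofBijective d ⟨(injective_iff_map_eq_zero d).2 fun z hz => ?_, fun c => ?_⟩).trans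
    ULift.moduleEquiv⟩
  · obtain ⟨i, φ, rfl⟩ := Concrete.colimit_exists_rep _ z
    rw [hd] at hz
    obtain ⟨j, g, hg⟩ := exists_map_eq_zero_of_θ I φ (congrArg ULift.down hz)
    rw [← colimit.w _ g, ConcreteCategory.comp_apply, hg, map_zero]
  · obtain ⟨n, φ, hφ⟩ := exists_θ_eq I c.down
    exact ⟨colimit.ι (diag I (DerivedCategory.Q.obj E)) (op (op n)) φ, (hd (op (op n)) φ).trans (congrArg ULift.up hφ)⟩

end GrothLib.RGamma

namespace GrothLib.RGamma

variable {A : Type u} [CommRing A] (I : Ideal A)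

/-- `Γ_I` commutes with shifts. -/
noncomputable def gammaShiftIso (C : CochainComplex (ModuleCat.{u} A) ℤ) (q : ℤ) :
    gammaCx I (C⟦q⟧) ≅ (gammaCx I C)⟦q⟧ :=
  ((((DRing.gammaI I).mapHomologicalComplex (ComplexShape.up ℤ))).commShiftIso q).app C

theorem nonempty_HD_equiv_HDI [DRing.HasRgammaI I] (K : Dual.D A) (q : ℤ) :
    Nonempty (Dual.HD A ((DRing.RgammaI I).obj K) q ≃ₗ[A] Dual2.HDI A I K q) := by
  obtain ⟨C, hC, -, k, e, -⟩ := exists_model I K
  let E := C⟦q⟧
  haveI : CochainComplex.IsKInjective E := inferInstanceAs (C⟦q⟧).IsKInjective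
  obtain ⟨e₁⟩ := exists_linearEquiv I (E := E)
  let eK : DerivedCategory.Q.obj E ≅ K⟦q⟧ :=
    (DerivedCategory.Q.commShiftIso q).app C ≪≫ (CategoryTheory.shiftFunctor (Dual.D A) q).mapIso k
  let eF : diag I (DerivedCategory.Q.obj E) ≅ diag I (K⟦q⟧) :=
    Functor.isoWhiskerLeft _ ((linearYoneda A (Dual.D A)).mapIso eK)
  exact ⟨(((hdIso e q).trans (hdEquiv (gammaCx I C) q)).trans
    (((HomologicalComplex.homologyFunctor (ModuleCat.{u} A) (ComplexShape.up ℤ) 0).shiftIso q 0 q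
      (add_zero q)).app (gammaCx I C)).symm.toLinearEquiv).trans
    (((HomologicalComplex.homologyFunctor (ModuleCat.{u} A) (ComplexShape.up ℤ) 0).mapIso
      (gammaShiftIso I C q)).symm.toLinearEquiv.trans
      (e₁.symm.trans (HasColimit.isoOfNatIso eF).toLinearEquiv))⟩

end GrothLib.RGamma
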