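import Groth.Agent.Lib.RGamma.Compute
import Groth.Agent.Lib.DerCat.Acyclic
import Mathlib.Algebra.Category.ModuleCat.Biproducts

/-! The comparison `Q Γ_I C ⟶ RΓ_I Q C`, invertible on soft complexes over Noetherian rings (helper3). -/

universe u

set_option linter.style.haveILetI false

open CategoryTheory Limits

attribute [local instance] HasDerivedCategory.standard

namespace GrothLib.RGamma

variable {A : Type u} [CommRing A] (I : Ideal A)

theorem isSoft_cone {C C' : CochainComplex (ModuleCat.{u} A) ℤ} (φ : C ⟶ C')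
    (hC : ∀ n, IsSoft (A := A) (C.X n)) (hC' : ∀ n, IsSoft (A := A) (C'.X n)) (n : ℤ) :
    IsSoft (A := A) ((CochainComplex.mappingCone φ).X n) :=
  isSoft_of_linearEquiv ((ModuleCat.biprodIsoProd _ _).symm ≪≫
      (HomologicalComplex.homotopyCofiber.XIsoBiprod φ n (n + 1) rfl).symm).toLinearEquiv
    (isSoft_prod (hC (n + 1)) (hC' n))

/-- `Γ_I` preserves quasi-isomorphisms of soft complexes. -/
theorem quasiIso_gamma_map (hI : I.FG) {C C' : CochainComplex (ModuleCat.{u} A) ℤ} (φ : C ⟶ C')
    (hC : ∀ n, IsSoft (A := A) (C.X n)) (hC' : ∀ n, IsSoft (A := A) (C'.X n)) (hφ : QuasiIso φ) :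
    QuasiIso (((DRing.gammaI I).mapHomologicalComplex (ComplexShape.up ℤ)).map φ) := by
  rw [GrothLib.DerCat.quasiIso_iff_acyclic_mappingCone] at hφ ⊢
  exact GrothLib.DerCat.acyclic_of_iso (CochainComplex.mappingCone.mapHomologicalComplexIso φ (DRing.gammaI I))
    (exact_gamma (isSoft_cone φ hC hC') I hI hφ)

variable [DRing.HasRgammaI I]

/-- The comparison as a natural transformation. -/
noncomputable def compNat :
    (DRing.gammaI I).mapHomologicalComplex (ComplexShape.up ℤ) ⋙ DerivedCategory.Q ⟶
      DerivedCategory.Q ⋙ DRing.RgammaI I :=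
  Functor.whiskerLeft _ (DerivedCategory.quotientCompQhIso (ModuleCat.{u} A)).inv ≫
    (Functor.associator _ _ _).inv ≫
    Functor.whiskerRight ((DRing.gammaI I).mapHomotopyCategoryFactors (ComplexShape.up ℤ)).inv DerivedCategory.Qh ≫
    (Functor.associator _ _ _).hom ≫
    Functor.whiskerLeft (HomotopyCategory.quotient _ (ComplexShape.up ℤ))
      ((DRing.gammaIKh I).totalRightDerivedUnit DerivedCategory.Qh
        (HomotopyCategory.quasiIso (ModuleCat.{u} A) (ComplexShape.up ℤ))) ≫
    (Functor.associator _ _ _).inv ≫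
    Functor.whiskerRight (DerivedCategory.quotientCompQhIso (ModuleCat.{u} A)).hom (DRing.RgammaI I)

/-- The comparison map. -/
noncomputable def comp (C : CochainComplex (ModuleCat.{u} A) ℤ) :
    DerivedCategory.Q.obj (gammaCx I C) ⟶ (DRing.RgammaI I).obj (DerivedCategory.Q.obj C) :=
  (compNat I).app C

theorem comp_eq (C : CochainComplex (ModuleCat.{u} A) ℤ) :
    comp I C = (DerivedCategory.quotientCompQhIso (ModuleCat.{u} A)).inv.app (gammaCx I C) ≫
    DerivedCategory.Qh.map (((DRing.gammaI I).mapHomotopyCategoryFactors (ComplexShape.up ℤ)).inv.app C) ≫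
    ((DRing.gammaIKh I).totalRightDerivedUnit DerivedCategory.Qh
      (HomotopyCategory.quasiIso (ModuleCat.{u} A) (ComplexShape.up ℤ))).app
        ((HomotopyCategory.quotient _ (ComplexShape.up ℤ)).obj C) ≫
    (DRing.RgammaI I).map ((DerivedCategory.quotientCompQhIso (ModuleCat.{u} A)).hom.app C) := by
  simp [comp, compNat]

theorem comp_naturality {C C' : CochainComplex (ModuleCat.{u} A) ℤ} (φ : C ⟶ C') :
    DerivedCategory.Q.map (((DRing.gammaI I).mapHomologicalComplex (ComplexShape.up ℤ)).map φ) ≫ comp I C' =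
      comp I C ≫ (DRing.RgammaI I).map (DerivedCategory.Q.map φ) :=
  (compNat I).naturality φ

theorem isIso_comp_of_isKInjective (C : CochainComplex (ModuleCat.{u} A) ℤ) [C.IsKInjective] :
    IsIso (comp I C) := by
  let X := (HomotopyCategory.quotient (ModuleCat.{u} A) (ComplexShape.up ℤ)).obj C
  let η := (DRing.gammaIKh I).totalRightDerivedUnit DerivedCategory.Qh
    (HomotopyCategory.quasiIso (ModuleCat.{u} A) (ComplexShape.up ℤ))
  haveI hη : IsIso (η.app X) := by
    have h1 := KInj.isIso_unit_of_rightOrthogonal (CochainComplex.IsKInjective.rightOrthogonal C)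
    have h2 := KInj.totalRightDerivedUnit_iso_hom (DRing.gammaIKh I) X
    haveI : IsIso ((DRing.gammaIKh I).map ((KInj.resAdj (ModuleCat.{u} A)).unit.app X)) :=
      Functor.map_isIso _ _
    haveI : IsIso (η.app X ≫ (KInj.totalRightDerivedIso (DRing.gammaIKh I)).hom.app
        (DerivedCategory.Qh.obj X)) := by
      rw [h2]; infer_instance
    exact IsIso.of_isIso_comp_right (η.app X)
      ((KInj.totalRightDerivedIso (DRing.gammaIKh I)).hom.app (DerivedCategory.Qh.obj X))
  rw [comp_eq]
  exact @IsIso.comp_isIso' _ _ _ _ _ _ _ inferInstance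
    (@IsIso.comp_isIso' _ _ _ _ _ _ _ inferInstance
      (@IsIso.comp_isIso' _ _ _ _ _ _ _ hη inferInstance))

theorem comp_ε (C : CochainComplex (ModuleCat.{u} A) ℤ) :
    comp I C ≫ (DRing.RgammaIε I).app (DerivedCategory.Q.obj C) = DerivedCategory.Q.map (incl I C) := by
  let X := (HomotopyCategory.quotient (ModuleCat.{u} A) (ComplexShape.up ℤ)).obj C
  let η := (DRing.gammaIKh I).totalRightDerivedUnit DerivedCategory.Qh
    (HomotopyCategory.quasiIso (ModuleCat.{u} A) (ComplexShape.up ℤ))
  have hfac : η.app X ≫ (DRing.RgammaIε I).app (DerivedCategory.Qh.obj X) = (DRing.gammaIτ I).app X :=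
    ((DRing.RgammaI I).rightDerived_fac_app η
      (HomotopyCategory.quasiIso (ModuleCat.{u} A) (ComplexShape.up ℤ)) (𝟭 (Dual.D A))
      (DRing.gammaIτ I ≫ (Functor.rightUnitor _).inv) X).trans (Category.comp_id _)
  have hn := (DRing.RgammaIε I).naturality ((DerivedCategory.quotientCompQhIso (ModuleCat.{u} A)).hom.app C)
  rw [comp_eq]
  simp only [Category.assoc]
  dsimp only [η, X, Functor.comp_obj, Functor.id_map] at hn hfac ⊢
  rw [hn, reassoc_of% hfac, gammaIτ_app]
  have h4 := (DerivedCategory.quotientCompQhIso (ModuleCat.{u} A)).hom.naturality (incl I C)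
  simp [DRing.gammaIτ0, incl] at h4 ⊢

theorem isIso_comp_of_soft [IsNoetherianRing A] (C : CochainComplex (ModuleCat.{u} A) ℤ)
    (hC : ∀ n, IsSoft (A := A) (C.X n)) : IsIso (comp I C) := by
  obtain ⟨C', i, hi, hC', hinj⟩ := KInj.exists_kInjective_resolution (ModuleCat.{u} A) C
  have hq := quasiIso_gamma_map I (IsNoetherian.noetherian I) i hC
    (fun n => haveI := hinj n; isSoft_of_injective (C'.X n)) hi
  haveI : IsIso (DerivedCategory.Q.map i) := Localization.inverts _
    (HomologicalComplex.quasiIso _ (ComplexShape.up ℤ)) _ hi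
  haveI : IsIso (DerivedCategory.Q.map
      (((DRing.gammaI I).mapHomologicalComplex (ComplexShape.up ℤ)).map i)) := Localization.inverts _
    (HomologicalComplex.quasiIso _ (ComplexShape.up ℤ)) _ hq
  haveI := isIso_comp_of_isKInjective I C'
  haveI : IsIso (comp I C ≫ (DRing.RgammaI I).map (DerivedCategory.Q.map i)) := by
    rw [← comp_naturality]; infer_instance
  exact IsIso.of_isIso_comp_right (comp I C) ((DRing.RgammaI I).map (DerivedCategory.Q.map i))

theorem isIso_map_ε [IsNoetherianRing A] (K : Dual.D A) :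
    IsIso ((DRing.RgammaI I).map ((DRing.RgammaIε I).app K)) := by
  obtain ⟨C, _, hinj, ⟨k⟩⟩ := exists_resolution K
  have hs : ∀ n, IsSoft (A := A) (C.X n) := fun n => haveI := hinj n; isSoft_of_injective (C.X n)
  haveI := isIso_comp_of_isKInjective I C
  haveI := isIso_comp_of_soft I (gammaCx I C) fun n => (hs n).torsionSub I
  haveI : IsIso (((DRing.gammaI I).mapHomologicalComplex (ComplexShape.up ℤ)).map (incl I C)) := by
    haveI : ∀ n, IsIso ((((DRing.gammaI I).mapHomologicalComplex (ComplexShape.up ℤ)).map (incl I C)).f n) :=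
      fun n => (ConcreteCategory.isIso_iff_bijective _).2
        ⟨fun x y h => Subtype.ext (Subtype.ext (congrArg Subtype.val h)),
          fun x => ⟨⟨⟨x.1, x.2⟩, (mem_torsionSub_subtype I _ _).2 x.2⟩, rfl⟩⟩
    exact HomologicalComplex.Hom.isIso_of_components _
  have h1 : IsIso ((DRing.RgammaI I).map (DerivedCategory.Q.map (incl I C))) := by
    have h := comp_naturality I (incl I C)
    haveI : IsIso (comp I (gammaCx I C) ≫ (DRing.RgammaI I).map (DerivedCategory.Q.map (incl I C))) := by
      rw [← h]; infer_instance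
    exact IsIso.of_isIso_comp_left (comp I (gammaCx I C)) _
  have hk : (DRing.RgammaI I).map k.inv ≫ inv (comp I C) ≫ DerivedCategory.Q.map (incl I C) ≫ k.hom =
      (DRing.RgammaIε I).app K := by
    rw [← comp_ε, Category.assoc, IsIso.inv_hom_id_assoc]
    have hn := (DRing.RgammaIε I).naturality k.inv
    rw [reassoc_of% hn]
    simp
  rw [← hk, CategoryTheory.Functor.map_comp, CategoryTheory.Functor.map_comp,
    CategoryTheory.Functor.map_comp]
  infer_instance

theorem hom_bijective [IsNoetherianRing A] (L K : Dual.D A)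
    (hL : ∀ i, LocCoh.IsPowerTorsion I (Dual.HD A L i)) :
    Function.Bijective (fun φ : L ⟶ (DRing.RgammaI I).obj K => φ ≫ (DRing.RgammaIε I).app K) := by
  haveI := isIso_ε I L hL
  haveI := isIso_map_ε I K
  haveI := isIso_ε I _ (isPowerTorsion_HD I K)
  refine ⟨fun φ φ' h => ?_, fun ψ => ⟨inv ((DRing.RgammaIε I).app L) ≫ (DRing.RgammaI I).map ψ, ?_⟩⟩
  · have h1 := congrArg (DRing.RgammaI I).map h
    simp only [CategoryTheory.Functor.map_comp, cancel_mono] at h1
    have hn := (DRing.RgammaIε I).naturality φ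
    have hn' := (DRing.RgammaIε I).naturality φ'
    rw [h1] at hn
    exact (cancel_epi ((DRing.RgammaIε I).app L)).1 (hn.symm.trans hn')
  · have hn := (DRing.RgammaIε I).naturality ψ
    dsimp only [Functor.id_obj, Functor.id_map] at hn ⊢
    rw [Category.assoc, hn, IsIso.inv_hom_id_assoc]

end GrothLib.RGamma
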