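import Groth.Agent.Lib.RGamma.Noeth
import Groth.Agent.Lib.ExtCech.Functorial

/-!
# The extended Čech complex computes `RΓ`
-/

set_option autoImplicit false
universe u

open CategoryTheory CategoryTheory.Limits CochainComplex Pretriangulated DerCA

attribute [local instance] HasDerivedCategory.standard

namespace GrothLib.RGamma

variable {A : Type u} [CommRing A]

noncomputable abbrev sing₀ : ModuleCat.{u} A ⥤ DRing.Cx A :=
  HomologicalComplex.single (ModuleCat.{u} A) (ComplexShape.up ℤ) 0

noncomputable abbrev singIso : sing₀ (A := A) ⋙ DerivedCategory.Q ≅ DerivedCategory.singleFunctor (ModuleCat.{u} A) 0 :=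
  ((SingleFunctors.evaluation _ _ 0).mapIso
    (DerivedCategory.singleFunctorsPostcompQIso (ModuleCat.{u} A))).symm

/-- The projection of the extended Čech complex on the module. -/
noncomputable def cechPr (M : ModuleCat.{u} A) : ∀ fs : List A, extCech M fs ⟶ sing₀.obj M
  | [] => 𝟙 _
  | f :: fs => mappingCocone.fst (locCxUnit (Submonoid.powers f) (extCech M fs)) ≫ cechPr M fs

theorem cechPr_naturality {M M' : ModuleCat.{u} A} (g : M ⟶ M') : ∀ fs : List A,
    ExtCech.cxMap g fs ≫ cechPr M' fs = cechPr M fs ≫ sing₀.map g := by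
  intro fs
  induction fs with
  | nil => exact (Category.comp_id _).trans (Category.id_comp _).symm
  | cons f fs ih =>
    change ExtCech.coconeMap _ _ _ _ _ ≫ mappingCocone.fst _ ≫ _ = (mappingCocone.fst _ ≫ _) ≫ _
    rw [ExtCech.coconeMap_fst_assoc, ih, Category.assoc]

/-- The projection in the derived category. -/
noncomputable def cechε (fs : List A) (M : ModuleCat.{u} A) :
    DerivedCategory.Q.obj (extCech M fs) ⟶ (DerivedCategory.singleFunctor (ModuleCat.{u} A) 0).obj M :=
  DerivedCategory.Q.map (cechPr M fs) ≫ singIso.hom.app M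

theorem cechε_naturality (fs : List A) {M M' : ModuleCat.{u} A} (g : M ⟶ M') :
    DerivedCategory.Q.map (ExtCech.cxMap g fs) ≫ cechε fs M' =
      cechε fs M ≫ (DerivedCategory.singleFunctor (ModuleCat.{u} A) 0).map g := by
  rw [cechε, cechε, ← Category.assoc, ← Functor.map_comp, cechPr_naturality, Functor.map_comp,
    Category.assoc, Category.assoc]
  exact congrArg (DerivedCategory.Q.map (cechPr M fs) ≫ ·) (singIso.hom.naturality g)

/-- The triangle of a cocone in the derived category. -/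
theorem cocone_distinguished_Q {K L : DRing.Cx A} (φ : K ⟶ L) :
    DerivedCategory.Q.mapTriangle.obj (mappingCocone.triangle φ) ∈ distTriang (Dual.D A) := by
  rw [rotate_distinguished_triangle]
  exact isomorphic_distinguished _ (DerivedCategory.mappingCone_triangle_distinguished φ) _
    ((DerivedCategory.Q (C := ModuleCat.{u} A)).mapTriangleRotateIso.app _ ≪≫
      (DerivedCategory.Q (C := ModuleCat.{u} A)).mapTriangle.mapIso (mappingCocone.rotateTriangleIso φ))

/-- Postcomposition with the first map of a triangle with orthogonal third object. -/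
theorem postcomp_bijective {L : Dual.D A} (T : Triangle (Dual.D A)) (hT : T ∈ distTriang _)
    (h : ∀ (k : ℤ) (ξ : L ⟶ T.obj₃⟦k⟧), ξ = 0) : Function.Bijective (fun a : L ⟶ T.obj₁ => a ≫ T.mor₁) := by
  refine ⟨fun a b hab => ?_, fun b => ?_⟩
  · have h0 : (a - b) ≫ T.invRotate.mor₂ = 0 := by
      change (a - b) ≫ T.mor₁ = 0
      rw [Preadditive.sub_comp, sub_eq_zero]
      exact hab
    obtain ⟨c, hc⟩ := Triangle.coyoneda_exact₂ _ (inv_rot_of_distTriang _ hT) (a - b) h0
    rw [← sub_eq_zero, hc, h (-1) c]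
    exact zero_comp
  · have h0 : b ≫ T.mor₂ = 0 :=
      (cancel_mono ((shiftFunctorZero (Dual.D A) ℤ).inv.app T.obj₃)).1 ((h 0 _).trans zero_comp.symm)
    obtain ⟨c, hc⟩ := Triangle.coyoneda_exact₂ _ hT b h0
    exact ⟨c, hc.symm⟩

variable [IsNoetherianRing A] (J : Ideal A) [DRing.HasRgammaI J]

theorem hom_eq_zero_of_smul_bijective (K : DRing.Cx A) (f : A) (hf : f ∈ J)
    (hK : ∀ n : ℤ, Function.Bijective (fun x : K.X n => f • x)) (L : Dual.D A)
    (hL : ∀ i, LocCoh.IsPowerTorsion J (Dual.HD A L i)) (k : ℤ)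
    (ξ : L ⟶ (DerivedCategory.Q.obj K)⟦k⟧) : ξ = 0 := by
  let e := ((DerivedCategory.Q (C := ModuleCat.{u} A)).commShiftIso k).app K
  have hz := isZero_of_smul_bijective J (K⟦k⟧) f hf fun n => hK (n + k)
  obtain ⟨φ, hφ⟩ := (hom_bijective J L _ hL).2 (ξ ≫ e.inv)
  rw [hz.eq_of_tgt φ 0] at hφ
  exact (cancel_mono e.inv).1 (hφ.symm.trans (zero_comp.trans zero_comp.symm))

variable (fs : List A) (hfs : Ideal.span {x | x ∈ fs} = J) (M : ModuleCat.{u} A)

include hfs in
omit [DRing.HasRgammaI J] in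
theorem isPowerTorsion_HD_cech (i : ℤ) :
    LocCoh.IsPowerTorsion J (Dual.HD A (DerivedCategory.Q.obj (extCech M fs)) i) := by
  refine isPowerTorsion_of_linearEquiv J
    ((DerivedCategory.homologyFunctorFactors (ModuleCat.{u} A) i).app (extCech M fs)).toLinearEquiv.symm
    fun x => ?_
  obtain ⟨n, hn⟩ := ExtCech.exists_common_pow fs M i x
  have hle : J ≤ (Ideal.torsionOf A _ x).radical := hfs ▸ Ideal.span_le.2 fun f hf => ⟨n, hn.2 f hf⟩
  obtain ⟨m, hm⟩ := Ideal.exists_pow_le_of_le_radical_of_fg hle (IsNoetherian.noetherian J)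
  exact ⟨m, fun a ha => hm ha⟩

theorem cech_postcomp_bijective (L : Dual.D A) (hL : ∀ i, LocCoh.IsPowerTorsion J (Dual.HD A L i)) :
    ∀ (fs : List A), (∀ f ∈ fs, f ∈ J) →
      Function.Bijective (fun a : L ⟶ DerivedCategory.Q.obj (extCech M fs) => a ≫ cechε fs M) := by
  intro fs
  induction fs with
  | nil =>
    intro _
    haveI : IsIso (cechε [] M) := by
      change IsIso (DerivedCategory.Q.map (𝟙 (sing₀.obj M)) ≫ singIso.hom.app M)
      infer_instance
    exact ⟨fun a b h => (cancel_mono (cechε [] M)).1 h, fun b => ⟨b ≫ inv (cechε [] M), by simp⟩⟩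
  | cons f fs ih =>
    intro hmem
    have h1 := postcomp_bijective (L := L) _
      (cocone_distinguished_Q (locCxUnit (Submonoid.powers f) (extCech M fs)))
      (fun k ξ => hom_eq_zero_of_smul_bijective J _ f (hmem f List.mem_cons_self)
        (fun n => (Module.End.isUnit_iff _).1 (IsLocalizedModule.map_units
          (LocalizedModule.mkLinearMap (Submonoid.powers f) ((extCech M fs).X n))
          (⟨f, Submonoid.mem_powers f⟩ : Submonoid.powers f))) L hL k ξ)
    have h2 := (ih fun g hg => hmem g (List.mem_cons_of_mem _ hg)).comp h1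
    refine (congrArg Function.Bijective (funext fun a => ?_)).mpr h2
    change a ≫ DerivedCategory.Q.map (mappingCocone.fst _ ≫ cechPr M fs) ≫ singIso.hom.app M =
      (a ≫ DerivedCategory.Q.map (mappingCocone.fst _)) ≫ cechε fs M
    exact (congrArg (fun t => a ≫ t ≫ singIso.hom.app M) (DerivedCategory.Q.map_comp _ _)).trans
      (by rw [cechε, Category.assoc, Category.assoc])

include hfs in
/-- The extended Čech complex is `RΓ_J`. -/
theorem exists_iso_cech : ∃ e : (DRing.RgammaI J).obj (Dual.inD A M) ≅ DerivedCategory.Q.obj (extCech M fs),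
    e.hom ≫ cechε fs M = (DRing.RgammaIε J).app (Dual.inD A M) := by
  have hL₁ := fun i => isPowerTorsion_HD J (Dual.inD A M) i
  have hL₂ := fun i => isPowerTorsion_HD_cech J fs hfs M i
  have hmem : ∀ f ∈ fs, f ∈ J := fun f hf => hfs ▸ Ideal.subset_span hf
  obtain ⟨a, ha⟩ := (cech_postcomp_bijective J M _ hL₁ fs hmem).2 ((DRing.RgammaIε J).app (Dual.inD A M))
  obtain ⟨b, hb⟩ := (hom_bijective J _ (Dual.inD A M) hL₂).2 (cechε fs M)
  refine ⟨⟨a, b, (hom_bijective J _ _ hL₁).1 ?_, (cech_postcomp_bijective J M _ hL₂ fs hmem).1 ?_⟩, ha⟩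
  · change (a ≫ b) ≫ _ = 𝟙 _ ≫ _
    rw [Category.assoc, Category.id_comp]
    exact (congrArg (a ≫ ·) hb).trans ha
  · change (b ≫ a) ≫ _ = 𝟙 _ ≫ _
    rw [Category.assoc, Category.id_comp]
    exact (congrArg (b ≫ ·) ha).trans hb

include hfs in
/-- Functoriality of the comparison. -/
theorem cech_iso_naturality {M' : ModuleCat.{u} A} (g : M ⟶ M')
    (e : (DRing.RgammaI J).obj (Dual.inD A M) ≅ DerivedCategory.Q.obj (extCech M fs))
    (he : e.hom ≫ cechε fs M = (DRing.RgammaIε J).app (Dual.inD A M))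
    (e' : (DRing.RgammaI J).obj (Dual.inD A M') ≅ DerivedCategory.Q.obj (extCech M' fs))
    (he' : e'.hom ≫ cechε fs M' = (DRing.RgammaIε J).app (Dual.inD A M')) :
    (DRing.RgammaI J).map ((DerivedCategory.singleFunctor (ModuleCat.{u} A) 0).map g) ≫ e'.hom =
      e.hom ≫ DerivedCategory.Q.map (ExtCech.cxMap g fs) := by
  have hmem : ∀ f ∈ fs, f ∈ J := fun f hf => hfs ▸ Ideal.subset_span hf
  refine (cech_postcomp_bijective J M' _ (fun i => isPowerTorsion_HD J (Dual.inD A M) i) fs hmem).1 ?_
  change (_ ≫ _) ≫ _ = (_ ≫ _) ≫ _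
  rw [Category.assoc, Category.assoc, he', cechε_naturality, ← Category.assoc e.hom, he]
  exact (DRing.RgammaIε J).naturality _

end GrothLib.RGamma
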