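import Groth.Agent.Lib.RGamma.Noeth

/-! `RΓ_J RΓ_I = RΓ_(I+J)` and the adjunction (helper3). -/

universe u

set_option linter.style.haveILetI false

open CategoryTheory Limits

attribute [local instance] HasDerivedCategory.standard

namespace GrothLib.RGamma

variable {A : Type u} [CommRing A] (I J : Ideal A)

/-- `Γ_J Γ_I = Γ_(I+J)`. -/
noncomputable def gammaSupEquiv (M : Type u) [AddCommGroup M] [Module A M] :
    DRing.torsionSub J (DRing.torsionSub I M) ≃ₗ[A] DRing.torsionSub (I ⊔ J) M where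
  toFun x := ⟨x.1.1, (LC.mem_torsionSub_sup_iff I J _).2 ⟨x.1.2, (mem_torsionSub_subtype J _ _).1 x.2⟩⟩
  map_add' _ _ := rfl
  map_smul' _ _ := rfl
  invFun x := ⟨⟨x.1, ((LC.mem_torsionSub_sup_iff I J _).1 x.2).1⟩,
    (mem_torsionSub_subtype J _ _).2 ((LC.mem_torsionSub_sup_iff I J _).1 x.2).2⟩
  left_inv _ := rfl
  right_inv _ := rfl

/-- The same on complexes. -/
noncomputable def gammaSupIso (C : CochainComplex (ModuleCat.{u} A) ℤ) :
    gammaCx J (gammaCx I C) ≅ gammaCx (I ⊔ J) C :=
  HomologicalComplex.Hom.isoOfComponents (fun n => (gammaSupEquiv I J (C.X n)).toModuleIso) fun i j _ => by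
    ext x
    rfl

variable [IsNoetherianRing A] [DRing.HasRgammaI I] [DRing.HasRgammaI J] [DRing.HasRgammaI (I ⊔ J)]

theorem comp_iso_sup (K : Dual.D A) :
    Nonempty ((DRing.RgammaI J).obj ((DRing.RgammaI I).obj K) ≅ (DRing.RgammaI (I ⊔ J)).obj K) := by
  obtain ⟨C, _, hinj, ⟨k⟩⟩ := exists_resolution K
  have hs : ∀ n, IsSoft (A := A) (C.X n) := fun n => haveI := hinj n; isSoft_of_injective (C.X n)
  haveI := isIso_comp_of_isKInjective I C
  haveI := isIso_comp_of_isKInjective (I ⊔ J) C
  haveI := isIso_comp_of_soft J (gammaCx I C) fun n => (hs n).torsionSub I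
  exact ⟨(DRing.RgammaI J).mapIso (((DRing.RgammaI I).mapIso k.symm) ≪≫ (asIso (comp I C)).symm) ≪≫
    (asIso (comp J (gammaCx I C))).symm ≪≫ DerivedCategory.Q.mapIso (gammaSupIso I J C) ≪≫
    asIso (comp (I ⊔ J) C) ≪≫ (DRing.RgammaI (I ⊔ J)).mapIso k⟩

omit [DRing.HasRgammaI J] [DRing.HasRgammaI (I ⊔ J)] in
theorem exists_adjunction :
    ∃ h : ∀ K : Dual.D A, (fun L : Dual.D A => ∀ i : ℤ, LocCoh.IsPowerTorsion I (Dual.HD A L i))
        ((DRing.RgammaI I).obj K),
      Nonempty (ObjectProperty.ι (fun L : Dual.D A => ∀ i : ℤ, LocCoh.IsPowerTorsion I (Dual.HD A L i)) ⊣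
        ObjectProperty.lift (fun L : Dual.D A => ∀ i : ℤ, LocCoh.IsPowerTorsion I (Dual.HD A L i))
          (DRing.RgammaI I) h) :=
  ⟨fun K => isPowerTorsion_HD I K, ⟨Adjunction.mkOfHomEquiv
    { homEquiv := fun L K => (Equiv.ofBijective _ (hom_bijective I L.obj K L.property)).symm.trans
        ((ObjectProperty.fullyFaithfulι _).homEquiv (Y :=
          (ObjectProperty.lift (fun L : Dual.D A => ∀ i : ℤ, LocCoh.IsPowerTorsion I (Dual.HD A L i))
            (DRing.RgammaI I) (fun K => isPowerTorsion_HD I K)).obj K)).symm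
      homEquiv_naturality_left_symm := fun f g => by
        change (f.hom ≫ g.hom) ≫ _ = f.hom ≫ (g.hom ≫ _)
        exact Category.assoc _ _ _
      homEquiv_naturality_right := fun {L K K'} f g => by
        apply ObjectProperty.hom_ext
        refine (hom_bijective I L.obj K' L.property).1 ?_
        change ((Equiv.ofBijective _ (hom_bijective I L.obj K' L.property)).symm (f ≫ g)) ≫ _ =
          (((Equiv.ofBijective _ (hom_bijective I L.obj K L.property)).symm f) ≫
            (DRing.RgammaI I).map g) ≫ _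
        have hn := (DRing.RgammaIε I).naturality g
        rw [Category.assoc, hn]
        refine ((Equiv.ofBijective _ (hom_bijective I L.obj K' L.property)).apply_symm_apply (f ≫ g)).trans ?_
        rw [← Category.assoc]
        exact congrArg (· ≫ g)
          ((Equiv.ofBijective _ (hom_bijective I L.obj K L.property)).apply_symm_apply f).symm }⟩⟩

end GrothLib.RGamma
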