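import Groth.Agent.Lib.RGamma.CechHat
import Groth.Agent.Lib.BCCoh.Products

/-!
# Degree zero of the completed Čech complex
-/

set_option autoImplicit false
universe u

open CategoryTheory CategoryTheory.Limits CochainComplex Pretriangulated DerCA

attribute [local instance] HasDerivedCategory.standard

namespace GrothLib.RGamma

variable {A : Type u} [CommRing A]

theorem bijective_cechPr_zero (M : ModuleCat.{u} A) : ∀ fs : List A,
    Function.Bijective ((cechPr M fs).f 0).hom := by
  intro fs
  induction fs with
  | nil => exact ConcreteCategory.bijective_of_isIso ((𝟙 (sing₀.obj M) : sing₀.obj M ⟶ _).f 0)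
  | cons f fs ih =>
    change Function.Bijective (⇑((cechPr M fs).f 0).hom ∘
      ⇑((mappingCocone.fst (locCxUnit (Submonoid.powers f) (extCech M fs))).f 0).hom)
    refine ih.comp ⟨fun x y hxy => ExtCech.cocone_ext_apply _ hxy ?_, fun z => ?_⟩
    · haveI : Subsingleton (((locCx (Submonoid.powers f)).obj (extCech M fs)).X (0 - 1)) :=
        ModuleCat.subsingleton_of_isZero
          ((locFunctor (Submonoid.powers f)).map_isZero (ExtCech.isZero_X M fs (0 - 1) (Or.inl (by omega))))
      exact Subsingleton.elim _ _
    · obtain ⟨c, hc, -⟩ := ExtCech.exists_cocone_elt (locCxUnit (Submonoid.powers f) (extCech M fs)) z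
        (0 : ((locCx (Submonoid.powers f)).obj (extCech M fs)).X (0 - 1))
      exact ⟨c, hc⟩

/-- A map injective in a degree below which the complexes vanish is injective on homology. -/
theorem homologyMap_injective {C D : DRing.Cx A} (φ : C ⟶ D) (i : ℤ)
    (hinj : Function.Injective (φ.f i).hom) (hD : IsZero (D.X (i - 1))) :
    Function.Injective (HomologicalComplex.homologyMap φ i).hom := by
  refine (injective_iff_map_eq_zero _).2 fun a ha => ?_
  obtain ⟨z, rfl⟩ := (ModuleCat.epi_iff_surjective (C.homologyπ i)).1 inferInstance a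
  obtain ⟨w, hw⟩ := BCCoh.exists_of_homologyπ_eq_zero D i (HomologicalComplex.cyclesMap φ i z)
    ((ConcreteCategory.congr_hom (HomologicalComplex.homologyπ_naturality φ i) z).symm.trans ha)
  have hw0 : w = 0 := by
    have : IsZero (D.X ((ComplexShape.up ℤ).prev i)) := by
      rw [show (ComplexShape.up ℤ).prev i = i - 1 from by simp]
      exact hD
    haveI := ModuleCat.subsingleton_of_isZero this
    exact Subsingleton.elim _ _
  rw [hw0, map_zero, show D.iCycles i (HomologicalComplex.cyclesMap φ i z) = φ.f i (C.iCycles i z) from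
    ConcreteCategory.congr_hom (HomologicalComplex.cyclesMap_i φ i) z] at hw
  have hz0 : C.iCycles i z = 0 := hinj (hw.symm.trans (map_zero _).symm)
  have hz : z = 0 := (ModuleCat.mono_iff_injective (C.iCycles i)).1 inferInstance
    (hz0.trans (map_zero _).symm)
  rw [hz]
  exact map_zero _

/-- An element killed by an ideal which is co-`I`-adically open at a unit is divisible by all powers of `I`. -/
theorem mem_pow_smul_loc (I : Ideal A) (g : A) (X : ModuleCat.{u} A) (K : Ideal A)
    (hK : ∀ r ∈ K, ∀ x : X, r • x = 0) (m : ℕ) (hg : ∃ N : ℕ, g ^ N ∈ K ⊔ I ^ m)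
    (z : LocalizedModule (Submonoid.powers g) X) :
    z ∈ I ^ m • (⊤ : Submodule A (LocalizedModule (Submonoid.powers g) X)) := by
  obtain ⟨N, hN⟩ := hg
  obtain ⟨r, hr, a, ha, hra⟩ := Submodule.mem_sup.1 hN
  induction z using LocalizedModule.induction_on with
  | h x s =>
    have h1 : LocalizedModule.mk x s = a • LocalizedModule.mk x (s * ⟨g ^ N, N, rfl⟩) := by
      rw [LocalizedModule.smul'_mk, LocalizedModule.mk_eq]
      refine ⟨1, ?_⟩
      simp only [Submonoid.smul_def, Submonoid.coe_mul, OneMemClass.coe_one, one_smul]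
      rw [mul_smul, ← hra, add_smul, hK r hr, zero_add]
    rw [h1]
    exact Submodule.smul_mem_smul ha trivial

/-- The higher terms of the Čech complex of a module killed by an ideal dense in `J`. -/
theorem mem_pow_smul_X (I : Ideal A) (M : ModuleCat.{u} A) (K : Ideal A) (hK : ∀ r ∈ K, ∀ x : M, r • x = 0) :
    ∀ (fs : List A), (∀ g ∈ fs, ∀ m : ℕ, ∃ N : ℕ, g ^ N ∈ K ⊔ I ^ m) →
      ∀ p : ℤ, (∀ r ∈ K, ∀ x : (extCech M fs).X p, r • x = 0) ∧
        (p ≠ 0 → ∀ (m : ℕ) (x : (extCech M fs).X p), x ∈ I ^ m • (⊤ : Submodule A ((extCech M fs).X p))) := by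
  intro fs
  induction fs with
  | nil =>
    intro _ p
    by_cases hp : p = 0
    · subst hp
      let e := (HomologicalComplex.singleObjXSelf (ComplexShape.up ℤ) 0 M).toLinearEquiv
      exact ⟨fun r hr x => e.injective
        (((map_smul e r x).trans (hK r hr _)).trans (map_zero e).symm), fun h => absurd rfl h⟩
    · haveI : Subsingleton ((extCech M []).X p) :=
        ModuleCat.subsingleton_of_isZero (HomologicalComplex.isZero_single_obj_X _ _ _ _ hp)
      exact ⟨fun _ _ _ => Subsingleton.elim (α := (extCech M []).X p) _ _, fun _ m x => by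
        rw [Subsingleton.elim (α := (extCech M []).X p) x 0]; exact zero_mem _⟩
  | cons f fs ih =>
    intro h p
    have ih' := ih fun g hg => h g (List.mem_cons_of_mem _ hg)
    let φ := locCxUnit (Submonoid.powers f) (extCech M fs)
    have hloc : ∀ r ∈ K, ∀ z : LocalizedModule (Submonoid.powers f) ((extCech M fs).X (p - 1)), r • z = 0 := by
      intro r hr z
      induction z using LocalizedModule.induction_on with
      | h x s => rw [LocalizedModule.smul'_mk, (ih' (p - 1)).1 r hr x, LocalizedModule.zero_mk]
    refine ⟨fun r hr x => ExtCech.cocone_ext_apply φ ?_ ?_, fun hp m x => ?_⟩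
    · exact ((map_smul ((mappingCocone.fst φ).f p).hom r x).trans ((ih' p).1 r hr _)).trans
        (map_zero ((mappingCocone.fst φ).f p).hom).symm
    · exact ((map_smul ((mappingCocone.snd φ).v p (p - 1) (by omega)).hom r x).trans (hloc r hr _)).trans
        (map_zero ((mappingCocone.snd φ).v p (p - 1) (by omega)).hom).symm
    · have key : x = ((mappingCocone.inl φ).v p p (add_zero p)).hom (((mappingCocone.fst φ).f p).hom x) +
          ((mappingCocone.inr φ).1.v (p - 1) p (by omega)).hom
            (((mappingCocone.snd φ).v p (p - 1) (by omega)).hom x) :=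
        (congrArg (fun k => k.hom x) (mappingCocone.id_X φ p (p - 1) (by omega))).symm
      rw [key]
      refine Submodule.add_mem _ ?_ ?_
      · exact Submodule.smul_mono le_rfl le_top ((Submodule.map_smul'' _ ⊤ _).le
          (Submodule.mem_map_of_mem ((ih' p).2 hp m (((mappingCocone.fst φ).f p).hom x))))
      · exact Submodule.smul_mono le_rfl le_top ((Submodule.map_smul'' _ ⊤
          ((mappingCocone.inr φ).1.v (p - 1) p (by omega)).hom).le
          (Submodule.mem_map_of_mem (mem_pow_smul_loc I f _ K (ih' (p - 1)).1 m (h f List.mem_cons_self m)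
            (((mappingCocone.snd φ).v p (p - 1) (by omega)).hom x))))

theorem isZero_hatF_of_mem_pow (I : Ideal A) (X : ModuleCat.{u} A)
    (h : ∀ (m : ℕ) (x : X), x ∈ I ^ m • (⊤ : Submodule A X)) : IsZero ((hatF I).obj X) := by
  haveI : Subsingleton (AdicCompletion I X) := subsingleton_of_forall_eq 0 fun z =>
    AdicCompletion.ext fun n => by
      obtain ⟨y, hy⟩ := Submodule.Quotient.mk_surjective _ (z.val n)
      rw [← hy]
      exact (Submodule.Quotient.mk_eq_zero _).2 (h n y)
  exact @ModuleCat.isZero_of_subsingleton _ _ _ (inferInstanceAs (Subsingleton (AdicCompletion I X)))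

variable [IsNoetherianRing A] (I J : Ideal A)

/-- The comparison of the completed augmentation with a model. -/
noncomputable def hatε (fs : List A) (M : ModuleCat.{u} A) :
    DerivedCategory.Q.obj (hatCx I (extCech M fs)) ⟶
      (DerivedCategory.singleFunctor (ModuleCat.{u} A) 0).obj ((hatF I).obj M) :=
  DerivedCategory.Q.map (((hatF I).mapHomologicalComplex (ComplexShape.up ℤ)).map (cechPr M fs) ≫
    (HomologicalComplex.singleMapHomologicalComplex (hatF I) (ComplexShape.up ℤ) 0).hom.app M) ≫
      singIso.hom.app ((hatF I).obj M)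

theorem toHat_hatε (fs : List A) (M : ModuleCat.{u} A) :
    DerivedCategory.Q.map (toHat I (extCech M fs)) ≫ hatε I fs M =
      cechε fs M ≫ (DerivedCategory.singleFunctor (ModuleCat.{u} A) 0).map ((hatUnit I).app M) := by
  have hs : toHat I (sing₀.obj M) ≫
      (HomologicalComplex.singleMapHomologicalComplex (hatF I) (ComplexShape.up ℤ) 0).hom.app M =
      sing₀.map ((hatUnit I).app M) := by
    refine (HomologicalComplex.from_single_hom_ext ?_).symm
    rw [HomologicalComplex.single_map_f_self, HomologicalComplex.comp_f,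
      HomologicalComplex.singleMapHomologicalComplex_hom_app_self]
    exact (hatUnit I).naturality_assoc (HomologicalComplex.singleObjXSelf (ComplexShape.up ℤ) 0 M).hom _
  rw [hatε, cechε, ← Category.assoc, ← Functor.map_comp, ← Category.assoc (toHat I _),
    ← toHat_naturality, Category.assoc, hs, Functor.map_comp, Category.assoc, Category.assoc]
  exact congrArg (DerivedCategory.Q.map (cechPr M fs) ≫ ·) (singIso.hom.naturality ((hatUnit I).app M))

theorem injective_hatε (fs : List A) (M : ModuleCat.{u} A) :
    Function.Injective ((DerivedCategory.homologyFunctor (ModuleCat.{u} A) 0).map (hatε I fs M)).hom := by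
  let F := (hatF I).mapHomologicalComplex (ComplexShape.up ℤ)
  let φ := F.map (cechPr M fs) ≫
    (HomologicalComplex.singleMapHomologicalComplex (hatF I) (ComplexShape.up ℤ) 0).hom.app M
  have hinj : Function.Injective (φ.f 0).hom := by
    haveI : IsIso ((cechPr M fs).f 0) :=
      (ConcreteCategory.isIso_iff_bijective _).2 (bijective_cechPr_zero M fs)
    haveI : IsIso ((F.map (cechPr M fs)).f 0) := inferInstanceAs (IsIso ((hatF I).map ((cechPr M fs).f 0)))
    haveI : IsIso (φ.f 0) := by
      rw [HomologicalComplex.comp_f]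
      infer_instance
    exact (ConcreteCategory.bijective_of_isIso (φ.f 0)).1
  have h1 := homologyMap_injective φ 0 hinj
    (HomologicalComplex.isZero_single_obj_X _ _ _ _ (by omega))
  rw [hatε, CategoryTheory.Functor.map_comp, ModuleCat.hom_comp, LinearMap.coe_comp]
  refine (ConcreteCategory.bijective_of_isIso ((DerivedCategory.homologyFunctor (ModuleCat.{u} A) 0).map
    (singIso.hom.app ((hatF I).obj M)))).1.comp ?_
  intro x y hxy
  have e := DerivedCategory.homologyFunctorFactors_hom_naturality φ 0
  apply (hdEquiv (hatCx I (extCech M fs)) 0).injective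
  apply h1
  exact ((ConcreteCategory.congr_hom e x).symm.trans
    (congrArg ((DerivedCategory.homologyFunctorFactors (ModuleCat.{u} A) 0).hom.app _).hom hxy)).trans (ConcreteCategory.congr_hom e y)

theorem isIso_hatε (fs : List A) (M : ModuleCat.{u} A) (K : Ideal A) (hK : ∀ r ∈ K, ∀ x : M, r • x = 0)
    (h : ∀ g ∈ fs, ∀ m : ℕ, ∃ N : ℕ, g ^ N ∈ K ⊔ I ^ m) : IsIso (hatε I fs M) := by
  let F := (hatF I).mapHomologicalComplex (ComplexShape.up ℤ)
  haveI : IsIso (F.map (cechPr M fs)) := by
    haveI : ∀ p, IsIso ((F.map (cechPr M fs)).f p) := fun p => by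
      by_cases hp : p = 0
      · subst hp
        haveI : IsIso ((cechPr M fs).f 0) :=
          (ConcreteCategory.isIso_iff_bijective _).2 (bijective_cechPr_zero M fs)
        exact inferInstanceAs (IsIso ((hatF I).map ((cechPr M fs).f 0)))
      · exact (isZero_hatF_of_mem_pow I _ (((mem_pow_smul_X I M K hK fs h) p).2 hp)).isIso
          ((hatF I).map_isZero (HomologicalComplex.isZero_single_obj_X _ _ _ _ hp)) _
    exact HomologicalComplex.Hom.isIso_of_components _
  unfold hatε
  infer_instance

variable [DRing.HasRgammaI J] [DRing.HasDerivedCompletion I] (fs : List A)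
  (hfs : Ideal.span {x | x ∈ fs} = J)

include hfs in
/-- The completed augmentation in terms of models. -/
theorem exists_completion_eps (M : ModuleCat.{u} A) [Module.Finite A M] :
    ∃ (i : ((DRing.derivedCompletion I).obj ((DRing.RgammaI J).obj (Dual.inD A M))).obj ≅
        DerivedCategory.Q.obj (hatCx I (extCech M fs)))
      (i' : ((DRing.derivedCompletion I).obj (Dual.inD A M)).obj ≅
        (DerivedCategory.singleFunctor (ModuleCat.{u} A) 0).obj ((hatF I).obj M)),
      DRing.toDerivedCompletion I (Dual.inD A M) ≫ i'.hom =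
        (DerivedCategory.singleFunctor (ModuleCat.{u} A) 0).map ((hatUnit I).app M) ∧
      (ObjectProperty.ι (DRing.IsDerivedComplete I)).map ((DRing.derivedCompletion I).map
        ((DRing.RgammaIε J).app (Dual.inD A M))) ≫ i'.hom = i.hom ≫ hatε I fs M := by
  obtain ⟨e, i, he, hi⟩ := exists_iso_completion_cech I J fs hfs M
  obtain ⟨h1, h2⟩ := isHatGood_module I (M := M) M isTensFlat_self
  obtain ⟨i', hi'⟩ := exists_iso_of_isCEquiv I _ h1 h2
  refine ⟨i, i', hi', hom_ext_completion I h2 ?_⟩
  have hn : (DRing.RgammaIε J).app (Dual.inD A M) ≫ DRing.toDerivedCompletion I (Dual.inD A M) =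
      DRing.toDerivedCompletion I _ ≫ (ObjectProperty.ι (DRing.IsDerivedComplete I)).map
        ((DRing.derivedCompletion I).map ((DRing.RgammaIε J).app (Dual.inD A M))) :=
    (DRing.derivedCompletionAdj I).unit.naturality _
  rw [← Category.assoc, ← hn, Category.assoc, reassoc_of% hi, toHat_hatε, reassoc_of% he]
  exact congrArg ((DRing.RgammaIε J).app (Dual.inD A M) ≫ ·) hi'

end GrothLib.RGamma
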