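import Mathlib.Algebra.Category.ModuleCat.Abelian
import Mathlib.Algebra.Homology.ConcreteCategory
import Mathlib.Algebra.Homology.ShortComplex.ModuleCat
import Mathlib.Algebra.Homology.HomotopyCategory
import Mathlib.Algebra.Homology.QuasiIso

/-! Cocycle classes of `ℤ`-indexed cochain complexes of modules (helper3). -/

universe u v

open CategoryTheory Limits

namespace GrothLib.RGamma

variable {R : Type u} [CommRing R] {K L : CochainComplex (ModuleCat.{v} R) ℤ}

theorem cycle_ext (n : ℤ) {z z' : K.cycles n} (h : K.iCycles n z = K.iCycles n z') : z = z' :=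
  (ModuleCat.mono_iff_injective (K.iCycles n)).1 inferInstance h

theorem exists_cycle {n : ℤ} {x : K.X n} (hx : K.d n (n + 1) x = 0) :
    ∃ z : K.cycles n, K.iCycles n z = x :=
  ⟨K.cyclesMk (show (forget₂ (ModuleCat.{v} R) Ab).obj (K.X n) from x) (n + 1) (by simp) hx,
    K.i_cyclesMk _ _ _ _⟩

theorem d_iCycles (n : ℤ) (z : K.cycles n) : K.d n (n + 1) (K.iCycles n z) = 0 := by
  rw [← ConcreteCategory.comp_apply, HomologicalComplex.iCycles_d]
  rfl

/-- The class of a cocycle. -/
noncomputable def cls (n : ℤ) (x : K.X n) (hx : K.d n (n + 1) x = 0) : K.homology n :=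
  K.homologyπ n (exists_cycle hx).choose

theorem cls_eq {n : ℤ} {x : K.X n} (hx : K.d n (n + 1) x = 0) (z : K.cycles n) (hz : K.iCycles n z = x) :
    cls n x hx = K.homologyπ n z :=
  congrArg _ (cycle_ext n ((exists_cycle hx).choose_spec.trans hz.symm))

theorem cls_surjective (n : ℤ) (h : K.homology n) : ∃ x hx, cls (K := K) n x hx = h := by
  obtain ⟨z, rfl⟩ := (ModuleCat.epi_iff_surjective (K.homologyπ n)).1 inferInstance h
  exact ⟨K.iCycles n z, d_iCycles n z, cls_eq _ z rfl⟩

theorem cls_eq_zero_iff {i n : ℤ} (hi : i + 1 = n) (x : K.X n) (hx : K.d n (n + 1) x = 0) :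
    cls n x hx = 0 ↔ ∃ w : K.X i, K.d i n w = x := by
  obtain ⟨z, rfl⟩ := exists_cycle hx
  rw [cls_eq hx z rfl]
  have hex : (ShortComplex.mk (K.toCycles i n) (K.homologyπ n) (K.toCycles_comp_homologyπ i n)).Exact :=
    ShortComplex.exact_of_g_is_cokernel _ (K.homologyIsCokernel i n (by simp; omega))
  constructor
  · intro h
    obtain ⟨w, hw⟩ := (ShortComplex.moduleCat_exact_iff _).1 hex z h
    exact ⟨w, by rw [← hw, ← ConcreteCategory.comp_apply, HomologicalComplex.toCycles_i]⟩
  · rintro ⟨w, hw⟩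
    rw [← cycle_ext n (show K.iCycles n (K.toCycles i n w) = K.iCycles n z by
      rw [← ConcreteCategory.comp_apply, HomologicalComplex.toCycles_i, hw]),
      ← ConcreteCategory.comp_apply, HomologicalComplex.toCycles_comp_homologyπ]
    rfl

theorem cls_add {n : ℤ} (x y : K.X n) (hx : K.d n (n + 1) x = 0) (hy : K.d n (n + 1) y = 0) :
    cls n (x + y) (by rw [map_add, hx, hy, add_zero]) = cls n x hx + cls n y hy := by
  obtain ⟨z, rfl⟩ := exists_cycle hx
  obtain ⟨z', rfl⟩ := exists_cycle hy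
  rw [cls_eq _ (z + z') (map_add _ _ _), cls_eq hx z rfl, cls_eq hy z' rfl, map_add]

theorem cls_smul {n : ℤ} (r : R) (x : K.X n) (hx : K.d n (n + 1) x = 0) :
    cls n (r • x) (by rw [map_smul, hx, smul_zero]) = r • cls n x hx := by
  obtain ⟨z, rfl⟩ := exists_cycle hx
  rw [cls_eq _ (r • z) (map_smul _ _ _), cls_eq hx z rfl, map_smul]

theorem cls_congr {n : ℤ} {x y : K.X n} (h : x = y) (hx : K.d n (n + 1) x = 0) :
    cls n x hx = cls n y (h ▸ hx) := by
  subst h; rfl

theorem map_cocycle (φ : K ⟶ L) {n : ℤ} {x : K.X n} (hx : K.d n (n + 1) x = 0) :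
    L.d n (n + 1) (φ.f n x) = 0 := by
  rw [← ConcreteCategory.comp_apply, φ.comm, ConcreteCategory.comp_apply, hx, map_zero]

theorem cls_map (φ : K ⟶ L) {n : ℤ} (x : K.X n) (hx : K.d n (n + 1) x = 0) :
    HomologicalComplex.homologyMap φ n (cls n x hx) = cls n (φ.f n x) (map_cocycle φ hx) := by
  obtain ⟨z, rfl⟩ := exists_cycle hx
  rw [cls_eq hx z rfl, cls_eq (map_cocycle φ hx) (HomologicalComplex.cyclesMap φ n z)
      (by rw [← ConcreteCategory.comp_apply, HomologicalComplex.cyclesMap_i, ConcreteCategory.comp_apply]),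
    ← ConcreteCategory.comp_apply, HomologicalComplex.homologyπ_naturality,
    ConcreteCategory.comp_apply]

/-- Multiplication by a scalar on a complex induces multiplication on cohomology. -/
theorem homologyMap_smul_id (r : R) (n : ℤ) (h : K.homology n) :
    HomologicalComplex.homologyMap (r • 𝟙 K) n h = r • h := by
  obtain ⟨x, hx, rfl⟩ := cls_surjective n h
  rw [cls_map, ← cls_smul]
  rfl

theorem quasiIso_iff_cocycles (φ : K ⟶ L) :
    QuasiIso φ ↔
      (∀ i n : ℤ, i + 1 = n → ∀ y : L.X n, L.d n (n + 1) y = 0 →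
        ∃ x : K.X n, K.d n (n + 1) x = 0 ∧ ∃ w : L.X i, L.d i n w = φ.f n x - y) ∧
      (∀ i n : ℤ, i + 1 = n → ∀ x : K.X n, K.d n (n + 1) x = 0 →
        (∃ w : L.X i, L.d i n w = φ.f n x) → ∃ v : K.X i, K.d i n v = x) := by
  constructor
  · intro h
    have hb : ∀ n, Function.Bijective (HomologicalComplex.homologyMap φ n).hom := fun n =>
      ConcreteCategory.bijective_of_isIso (HomologicalComplex.homologyMap φ n)
    refine ⟨fun i n hi y hy => ?_, fun i n hi x hx hw => ?_⟩
    · obtain ⟨c, hc⟩ := (hb n).2 (cls n y hy)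
      obtain ⟨x, hx, rfl⟩ := cls_surjective n c
      refine ⟨x, hx, (cls_eq_zero_iff hi _ (by rw [map_sub, map_cocycle φ hx, hy, sub_zero])).1 ?_⟩
      rw [cls_map] at hc
      have := cls_add (φ.f n x - y) y (by rw [map_sub, map_cocycle φ hx, hy, sub_zero]) hy
      rw [cls_congr (sub_add_cancel (φ.f n x) y)] at this
      exact add_right_cancel (this.symm.trans (hc.trans (zero_add _).symm))
    · refine (cls_eq_zero_iff hi x hx).1 ((hb n).1 ?_)
      rw [map_zero, cls_map]
      exact (cls_eq_zero_iff hi _ _).2 hw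
  · rintro ⟨hs, hinj⟩
    rw [quasiIso_iff]
    intro n
    rw [quasiIsoAt_iff_isIso_homologyMap, ConcreteCategory.isIso_iff_bijective]
    refine ⟨(injective_iff_map_eq_zero (HomologicalComplex.homologyMap φ n).hom).2 fun c hc => ?_,
      fun c => ?_⟩
    · obtain ⟨x, hx, rfl⟩ := cls_surjective n c
      rw [cls_map] at hc
      exact (cls_eq_zero_iff (sub_add_cancel n 1) x hx).2
        (hinj _ n (sub_add_cancel n 1) x hx ((cls_eq_zero_iff (sub_add_cancel n 1) _ _).1 hc))
    · obtain ⟨y, hy, rfl⟩ := cls_surjective n c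
      obtain ⟨x, hx, hw⟩ := hs _ n (sub_add_cancel n 1) y hy
      refine ⟨cls n x hx, ?_⟩
      rw [cls_map]
      have h0 : cls n (φ.f n x - y) (by rw [map_sub, map_cocycle φ hx, hy, sub_zero]) = 0 :=
        (cls_eq_zero_iff (sub_add_cancel n 1) _ _).2 hw
      have := cls_add (φ.f n x - y) y (by rw [map_sub, map_cocycle φ hx, hy, sub_zero]) hy
      rw [cls_congr (sub_add_cancel (φ.f n x) y)] at this
      exact this.trans ((congrArg (· + cls n y hy) h0).trans (zero_add _))

end GrothLib.RGamma
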