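import Groth.Agent.Lib.RGamma.Noeth
import Groth.Agent.Lib.DCxRing.KoszulCone
import Groth.Agent.Lib.DCxRing.DComplete.TensorFree
import Mathlib.Algebra.Homology.DerivedCategory.ShortExact

/-! Greenlees–May duality over Noetherian rings (helper3). -/

universe u

set_option linter.style.haveILetI false

open CategoryTheory Limits Pretriangulated

attribute [local instance] HasDerivedCategory.standard

namespace GrothLib.RGamma

variable {A : Type u} [CommRing A] (I : Ideal A)

/-- No maps to derived complete objects. -/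
def LOrth (X : Dual.D A) : Prop :=
  ∀ (L : Dual.D A), DRing.IsDerivedComplete I L → ∀ ξ : X ⟶ L, ξ = 0

theorem isDerivedComplete_shift {L : Dual.D A} (h : DRing.IsDerivedComplete I L) (n : ℤ) :
    DRing.IsDerivedComplete I (L⟦n⟧) := by
  rw [DCpl.isDerivedComplete_iff] at h ⊢
  exact fun f hf => DCpl.dcObj_shift (h f hf) n

/-- A map is a completion-equivalence. -/
def IsCEquiv {X Y : Dual.D A} (φ : X ⟶ Y) : Prop :=
  ∀ (L : Dual.D A), DRing.IsDerivedComplete I L → Function.Bijective (fun ψ : Y ⟶ L => φ ≫ ψ)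

theorem isCEquiv_of_isIso {X Y : Dual.D A} (φ : X ⟶ Y) [IsIso φ] : IsCEquiv I φ := fun L _ =>
  ⟨fun a b h => (cancel_epi φ).1 h, fun b => ⟨inv φ ≫ b, IsIso.hom_inv_id_assoc φ b⟩⟩

theorem IsCEquiv.comp {X Y Z : Dual.D A} {φ : X ⟶ Y} {ψ : Y ⟶ Z} (h : IsCEquiv I φ) (h' : IsCEquiv I ψ) :
    IsCEquiv I (φ ≫ ψ) := fun L hL => by
  have : (fun χ : Z ⟶ L => (φ ≫ ψ) ≫ χ) = (fun χ => φ ≫ χ) ∘ (fun χ => ψ ≫ χ) := by
    funext χ
    exact Category.assoc _ _ _
  rw [this]
  exact (h L hL).comp (h' L hL)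

theorem isCEquiv_iff_lOrth (T : Triangle (Dual.D A)) (hT : T ∈ distTriang _) :
    IsCEquiv I T.mor₁ ↔ LOrth I T.obj₃ := by
  constructor
  · intro h L hL
    have h1 : ∀ n : ℤ, Function.Bijective (fun ψ : T.obj₂ ⟶ L⟦n⟧ => T.mor₁ ≫ ψ) :=
      fun n => h _ (isDerivedComplete_shift I hL n)
    have h2 := (DCpl.subsingleton_iff_precomp_bijective T hT L).2 h1 0
    intro ξ
    exact (cancel_mono ((shiftFunctorZero (Dual.D A) ℤ).inv.app L)).1
      ((h2.elim _ _).trans zero_comp.symm)
  · intro h L hL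
    have h1 : ∀ n : ℤ, Subsingleton (T.obj₃ ⟶ L⟦n⟧) := fun n =>
      ⟨fun a b => (h _ (isDerivedComplete_shift I hL n) a).trans (h _ (isDerivedComplete_shift I hL n) b).symm⟩
    have h2 := (DCpl.subsingleton_iff_precomp_bijective T hT L).1 h1 0
    let e := (shiftFunctorZero (Dual.D A) ℤ).app L
    refine ⟨fun a b hab => (cancel_mono e.inv).1 (h2.1 ?_), fun b => ?_⟩
    · change T.mor₁ ≫ a ≫ e.inv = T.mor₁ ≫ b ≫ e.inv
      rw [← Category.assoc, ← Category.assoc]
      exact congrArg (· ≫ e.inv) hab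
    · obtain ⟨c, hc⟩ := h2.2 (b ≫ e.inv)
      refine ⟨c ≫ e.hom, ?_⟩
      change T.mor₁ ≫ c ≫ e.hom = b
      rw [← Category.assoc]
      exact ((congrArg (· ≫ e.hom) hc).trans (by rw [Category.assoc, e.inv_hom_id]; exact Category.comp_id b))

theorem lOrth_of_isIso_smul {f : A} (hf : f ∈ I) {X : Dual.D A} [IsIso (f • 𝟙 X)] : LOrth I X :=
  fun L hL ξ => DCpl.hom_eq_zero_of_isIso_smul ((DCpl.isDerivedComplete_iff I L).1 hL f hf) ξ

theorem isCEquiv_map {X Y : Dual.D A} [DRing.HasDerivedCompletion I] {φ : X ⟶ Y} (h : IsCEquiv I φ) :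
    IsIso ((DRing.derivedCompletion I).map φ) := by
  refine isIso_of_coyoneda_map_bijective _ fun T => ?_
  let adj := DRing.derivedCompletionAdj I
  refine (Function.Bijective.of_comp_iff' (adj.homEquiv X T).bijective _).1 ?_
  have : (adj.homEquiv X T) ∘ (fun ψ => (DRing.derivedCompletion I).map φ ≫ ψ) =
      (fun ψ => φ ≫ ψ) ∘ (adj.homEquiv Y T) := funext fun ψ => adj.homEquiv_naturality_left φ ψ
  rw [this]
  exact (h T.obj T.property).comp (adj.homEquiv Y T).bijective

section Koszul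

theorem lOrth_shift {X : Dual.D A} (h : LOrth I X) (n : ℤ) : LOrth I (X⟦n⟧) := fun L hL ξ => by
  apply (shiftFunctor (Dual.D A) (-n)).map_injective
  rw [Functor.map_zero]
  exact (cancel_epi ((shiftEquiv (Dual.D A) n).unitIso.hom.app X)).1
    ((h _ (isDerivedComplete_shift I hL (-n)) _).trans comp_zero.symm)

theorem isPowerTorsion_of_exact {M N P : Type u} [AddCommGroup M] [Module A M] [AddCommGroup N] [Module A N]
    [AddCommGroup P] [Module A P] (f : M →ₗ[A] N) (g : N →ₗ[A] P) (hfg : Function.Exact f g)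
    (hI : I.FG) (hM : LocCoh.IsPowerTorsion I M) (hP : LocCoh.IsPowerTorsion I P) :
    LocCoh.IsPowerTorsion I N := fun x => by
  obtain ⟨n, hn⟩ := hP (g x)
  have hmem : ∀ a ∈ I ^ n, a • x ∈ LinearMap.range f := fun a ha =>
    (hfg (a • x)).1 (by rw [map_smul, hn a ha])
  obtain ⟨s, hs⟩ := Ideal.FG.pow (n := n) hI
  have hk : ∀ a ∈ s, ∃ k : ℕ, ∀ c ∈ I ^ k, c • (a • x) = 0 := fun a ha => by
    obtain ⟨m, hm⟩ := hmem a (hs ▸ Ideal.subset_span ha)
    obtain ⟨k, hk⟩ := hM m
    exact ⟨k, fun c hc => by rw [← hm, ← map_smul, hk c hc, map_zero]⟩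
  choose k hk using hk
  classical
  refine ⟨s.attach.sum (fun a => k a.1 a.2) + n, fun a ha => ?_⟩
  rw [pow_add] at ha
  refine Submodule.mul_induction_on ha (fun c hc b hb => ?_) fun b c hb hc => by rw [add_smul, hb, hc, add_zero]
  have hle : Ideal.span (s : Set A) ≤ LinearMap.ker (LinearMap.toSpanSingleton A N x ∘ₗ LinearMap.mulLeft A c) :=
    Ideal.span_le.2 fun b hb => by
      change (c * b) • x = 0
      rw [mul_smul]
      exact hk b hb c (Ideal.pow_le_pow_right
        (Finset.single_le_sum (f := fun a : s => k a.1 a.2) (fun _ _ => Nat.zero_le _) (Finset.mem_attach s ⟨b, hb⟩)) hc)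
  exact hle (show b ∈ Ideal.span (s : Set A) from hs.symm ▸ hb)

theorem isPowerTorsion_obj₃ (hI : I.FG) (T : Triangle (Dual.D A)) (hT : T ∈ distTriang _)
    (h₁ : ∀ i, LocCoh.IsPowerTorsion I (Dual.HD A T.obj₁ i))
    (h₂ : ∀ i, LocCoh.IsPowerTorsion I (Dual.HD A T.obj₂ i)) (i : ℤ) :
    LocCoh.IsPowerTorsion I (Dual.HD A T.obj₃ i) :=
  isPowerTorsion_of_exact I _ _ ((ShortComplex.ShortExact.moduleCat_exact_iff_function_exact _).1
    (DerivedCategory.HomologySequence.exact₃ _ hT i (i + 1) rfl)) hI (h₂ i) (h₁ (i + 1))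

theorem smul_cone_eq_zero {g : A} (T : Triangle (Dual.D A)) (hT : T ∈ distTriang _)
    (h₁ : g • 𝟙 T.obj₁ = 0) (h₂ : g • 𝟙 T.obj₂ = 0) : (g * g) • 𝟙 T.obj₃ = 0 := by
  have hz : T.mor₂ ≫ (g • 𝟙 T.obj₃) = 0 := by
    rw [Linear.comp_smul, Category.comp_id, ← Category.id_comp T.mor₂, ← Linear.smul_comp, h₂, zero_comp]
  obtain ⟨ψ, hψ⟩ := T.yoneda_exact₃ hT _ hz
  have hδ : g • T.mor₃ = 0 := by
    rw [← Category.comp_id T.mor₃, ← Linear.comp_smul]
    have : g • 𝟙 (T.obj₁⟦(1 : ℤ)⟧) = 0 := by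
      rw [← CategoryTheory.Functor.map_id, ← Functor.map_smul, h₁, Functor.map_zero]
    rw [this, comp_zero]
  rw [mul_smul, hψ, ← Linear.smul_comp, hδ, zero_comp]

/-- Scalars killing an object. -/
def dcNil (X : Dual.D A) : Ideal A where
  carrier := {c | c • 𝟙 X = 0}
  zero_mem' := zero_smul A (𝟙 X)
  add_mem' := fun {a b} ha hb => by
    change (a + b) • 𝟙 X = 0
    rw [add_smul, show a • 𝟙 X = 0 from ha, show b • 𝟙 X = 0 from hb, add_zero]
  smul_mem' := fun r c hc => by
    change (r * c) • 𝟙 X = 0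
    rw [mul_smul, show c • 𝟙 X = 0 from hc, smul_zero]

theorem isZero_of_subsingleton_HD {X : Dual.D A} (h : ∀ i, Subsingleton (Dual.HD A X i)) : IsZero X := by
  haveI : IsIso (0 : X ⟶ X) := by
    rw [DerivedCategory.isIso_iff]
    intro n
    haveI : Subsingleton (Dual.HD A X n) := h n
    have hz : IsZero ((DerivedCategory.homologyFunctor (ModuleCat.{u} A) n).obj X) :=
      ModuleCat.isZero_of_subsingleton _
    exact ⟨0, hz.eq_of_src _ _, hz.eq_of_src _ _⟩
  rw [IsZero.iff_id_eq_zero, ← cancel_epi (0 : X ⟶ X)]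
  simp

theorem isZero_of_torsion_lOrth (hI : I.FG) : ∀ (l : List A), (∀ g ∈ l, g ∈ I) → ∀ (X : Dual.D A),
    (∀ i, LocCoh.IsPowerTorsion I (Dual.HD A X i)) → LOrth I X →
    (∀ g ∈ I, g ∈ (Ideal.span {x | x ∈ l} ⊔ (dcNil X)).radical) → IsZero X
  | [], _, X, _, hX, hnil => by
    refine (IsZero.iff_id_eq_zero X).2 (hX X ((DCpl.isDerivedComplete_iff I X).2 fun g hg => ?_) _)
    refine (DCpl.dcObj_iff_orth g X).2 fun Y _ ξ => ?_
    have h := hnil g hg
    rw [show {x : A | x ∈ ([] : List A)} = ∅ by simp, Ideal.span_empty, bot_sup_eq] at h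
    obtain ⟨n, hn⟩ := h
    have hn' : g ^ n • ξ = 0 := by
      rw [← Category.comp_id ξ, ← Linear.comp_smul, show g ^ n • 𝟙 X = 0 from hn, comp_zero]
    clear hn
    induction n with
    | zero => rwa [pow_zero, one_smul] at hn'
    | succ n ih => exact ih (DCpl.smul_eq_zero_of_isIso (g ^ n • ξ) (by rw [← mul_smul, ← pow_succ', hn']))
  | g :: l, hl, X, htor, hX, hnil => by
    obtain ⟨Z, p, δ, hT⟩ := distinguished_cocone_triangle (g • 𝟙 X)
    let T := Triangle.mk (g • 𝟙 X) p δ
    have hZ : IsZero Z := by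
      refine isZero_of_torsion_lOrth hI l (fun x hx => hl x (List.mem_cons_of_mem _ hx)) Z
        (isPowerTorsion_obj₃ I hI T hT htor htor) ?_ fun a ha => ?_
      · intro L hL ξ
        have h1 : p ≫ ξ = 0 := hX L hL _
        obtain ⟨η, hη⟩ : ∃ η : X⟦(1 : ℤ)⟧ ⟶ L, ξ = δ ≫ η := T.yoneda_exact₃ hT ξ h1
        rw [hη, lOrth_shift I hX 1 L hL η, comp_zero]
      · refine Ideal.radical_le_radical_iff.2 (sup_le ?_ ?_) (hnil a ha)
        · refine Ideal.span_le.2 fun x hx => ?_
          rcases List.mem_cons.1 hx with rfl | hx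
          · refine Ideal.radical_mono le_sup_right ⟨2, ?_⟩
            change x ^ 2 • 𝟙 Z = 0
            have hpz : p ≫ (x • 𝟙 Z) = 0 := by
              rw [Linear.comp_smul, Category.comp_id, ← Category.id_comp p, ← Linear.smul_comp]
              exact comp_distTriang_mor_zero₁₂ _ hT
            obtain ⟨ψ, hψ⟩ : ∃ ψ : X⟦(1 : ℤ)⟧ ⟶ Z, x • 𝟙 Z = δ ≫ ψ := T.yoneda_exact₃ hT _ hpz
            have hδ : x • δ = 0 := by
              rw [← Category.comp_id δ, ← Linear.comp_smul]
              have : x • 𝟙 (X⟦(1 : ℤ)⟧) = (x • 𝟙 X)⟦(1 : ℤ)⟧' := by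
                rw [Functor.map_smul, CategoryTheory.Functor.map_id]
              rw [this]
              exact comp_distTriang_mor_zero₃₁ _ hT
            rw [sq, mul_smul, hψ, ← Linear.smul_comp]
            exact (congrArg (fun t => t ≫ ψ) hδ).trans zero_comp
          · exact Ideal.le_radical (Ideal.mem_sup_left (Ideal.subset_span hx))
        · intro c hc
          refine Ideal.radical_mono le_sup_right ⟨2, ?_⟩
          change c ^ 2 • 𝟙 Z = 0
          rw [sq]
          exact smul_cone_eq_zero T hT hc hc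
    haveI : IsIso (g • 𝟙 X) := (Triangle.isZero₃_iff_isIso₁ _ hT).1 hZ
    refine isZero_of_subsingleton_HD fun i => ?_
    haveI : IsIso ((DerivedCategory.homologyFunctor (ModuleCat.{u} A) i).map (g • 𝟙 X)) := Functor.map_isIso _ _
    have hb : Function.Injective fun x : Dual.HD A X i => g • x := by
      have := (ConcreteCategory.bijective_of_isIso
        ((DerivedCategory.homologyFunctor (ModuleCat.{u} A) i).map (g • 𝟙 X))).1
      rw [DR.homology_map_smul_id] at this
      exact this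
    refine subsingleton_of_forall_eq 0 fun x => ?_
    obtain ⟨n, hn⟩ := htor i x
    have hn' : g ^ n • x = 0 := hn _ (Ideal.pow_mem_pow (hl g List.mem_cons_self) n)
    clear hn
    induction n generalizing x with
    | zero => simpa using hn'
    | succ n ih => exact ih x (hb (show g • (g ^ n • x) = g • 0 by rw [smul_zero, ← mul_smul, ← pow_succ', hn']))

end Koszul

end GrothLib.RGamma

namespace GrothLib.RGamma

variable {A : Type u} [CommRing A] (I : Ideal A)

/-- The inclusion `Γ_(J+(f)) E → Γ_J E`. -/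
noncomputable def stepHom (J : Ideal A) (f : A) (E : CochainComplex (ModuleCat.{u} A) ℤ) :
    gammaCx (J ⊔ Ideal.span {f}) E ⟶ gammaCx J E where
  f n := ModuleCat.ofHom (Submodule.inclusion fun x hx => ((LC.mem_torsionSub_sup_iff J _ x).1 hx).1)
  comm' i j _ := by
    ext x
    rfl

theorem smul_bijective_quot {M Q : Type u} [AddCommGroup M] [Module A M] [AddCommGroup Q] [Module A Q]
    (hM : IsSoft (A := A) M) (J : Ideal A) (f : A) (g : DRing.torsionSub J M →ₗ[A] Q)
    (hg : Function.Surjective g)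
    (hker : ∀ x, g x = 0 ↔ (x : M) ∈ DRing.torsionSub (J ⊔ Ideal.span {f}) M) :
    Function.Bijective fun q : Q => f • q := by
  have inj : ∀ q : Q, f • q = 0 → q = 0 := fun q hq => by
    obtain ⟨x, rfl⟩ := hg q
    rw [← map_smul, hker, Submodule.coe_smul] at hq
    obtain ⟨k, hk⟩ := (mem_torsionSub_singleton f _).1 ((LC.mem_torsionSub_sup_iff J _ _).1 hq).2
    exact (hker x).2 ((LC.mem_torsionSub_sup_iff J _ _).2 ⟨x.2, (mem_torsionSub_singleton f _).2
      ⟨k + 1, by rw [pow_succ, mul_smul, hk]⟩⟩)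
  refine ⟨fun a b hab => sub_eq_zero.1 (inj _ (by rw [smul_sub]; exact sub_eq_zero.2 hab)), fun q => ?_⟩
  obtain ⟨x, rfl⟩ := hg q
  obtain ⟨y, hy, m, hm⟩ := hM J f x.1 x.2 1
  refine ⟨g ⟨y, hy⟩, ?_⟩
  change f • g ⟨y, hy⟩ = g x
  rw [← sub_eq_zero, ← map_smul, ← map_sub, hker]
  exact (LC.mem_torsionSub_sup_iff J _ _).2 ⟨(f • (⟨y, hy⟩ : DRing.torsionSub J M) - x).2,
    (mem_torsionSub_singleton f _).2 ⟨m, by rw [← pow_one f, ← pow_mul, one_mul] ; simpa using hm⟩⟩

theorem isCEquiv_stepHom (J : Ideal A) {f : A} (hf : f ∈ I) (E : CochainComplex (ModuleCat.{u} A) ℤ)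
    (hE : ∀ n, IsSoft (A := A) (E.X n)) : IsCEquiv I (DerivedCategory.Q.map (stepHom J f E)) := by
  haveI : ∀ n, Mono ((stepHom J f E).f n) := fun n =>
    (ModuleCat.mono_iff_injective _).2 (fun x y h => Subtype.ext (congrArg Subtype.val h :))
  haveI : Mono (stepHom J f E) := HomologicalComplex.mono_of_mono_f _ inferInstance
  let S := ShortComplex.mk (stepHom J f E) (cokernel.π (stepHom J f E)) (cokernel.condition _)
  have hS : S.ShortExact :=
    { exact := ShortComplex.exact_of_g_is_cokernel _ (cokernelIsCokernel _) }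
  let T := DerivedCategory.triangleOfSES hS
  have hT : T ∈ distTriang _ := DerivedCategory.triangleOfSES_distinguished hS
  refine (isCEquiv_iff_lOrth I T hT).2 ?_
  haveI : IsIso (f • 𝟙 S.X₃) := by
    haveI : ∀ n, IsIso ((f • 𝟙 S.X₃).f n) := fun n => by
      rw [ConcreteCategory.isIso_iff_bijective]
      have hg : Function.Surjective (S.g.f n) := by
        haveI := hS.epi_g
        exact (ModuleCat.epi_iff_surjective _).1 inferInstance
      have hex := (ShortComplex.moduleCat_exact_iff _).1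
        (hS.exact.map (HomologicalComplex.eval (ModuleCat.{u} A) (ComplexShape.up ℤ) n))
      refine smul_bijective_quot (hE n) J f (S.g.f n).hom hg fun x => ⟨fun h => ?_, fun h => ?_⟩
      · obtain ⟨y, hy⟩ := hex x h
        rw [← hy]
        exact y.2
      · exact ConcreteCategory.congr_hom (congrArg (fun φ => φ.f n) S.zero) ⟨x.1, h⟩
    exact HomologicalComplex.Hom.isIso_of_components _
  haveI : IsIso (f • 𝟙 T.obj₃) := by
    have : IsIso (DerivedCategory.Q.map (f • 𝟙 S.X₃)) := inferInstance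
    rwa [Functor.map_smul, CategoryTheory.Functor.map_id] at this
  exact lOrth_of_isIso_smul I hf

theorem isCEquiv_incl (hI : I.FG) (E : CochainComplex (ModuleCat.{u} A) ℤ)
    (hE : ∀ n, IsSoft (A := A) (E.X n)) : IsCEquiv I (DerivedCategory.Q.map (incl I E)) := by
  classical
  obtain ⟨s, hs⟩ := hI
  suffices ∀ t : Finset A, (t : Set A) ⊆ I → IsCEquiv I (DerivedCategory.Q.map (incl (Ideal.span (t : Set A)) E)) by
    have h := this s (hs ▸ Ideal.subset_span)
    rwa [show Ideal.span (s : Set A) = I from hs] at h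
  intro t
  induction t using Finset.induction with
  | empty =>
    intro _
    haveI : IsIso (incl (Ideal.span ((∅ : Finset A) : Set A)) E) := by
      haveI : ∀ n, IsIso ((incl (Ideal.span ((∅ : Finset A) : Set A)) E).f n) := fun n =>
        (ConcreteCategory.isIso_iff_bijective _).2 ⟨fun x y h => Subtype.ext h, fun x => ⟨⟨x, 1, fun a ha => by
          simp only [Finset.coe_empty, Ideal.span_empty, pow_one, Ideal.mem_bot] at ha
          rw [ha, zero_smul]⟩, rfl⟩⟩
      exact HomologicalComplex.Hom.isIso_of_components _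
    exact isCEquiv_of_isIso I _
  | insert a t _ ih =>
    intro hsub
    rw [Finset.coe_insert, Set.insert_subset_iff] at hsub
    have heq : Ideal.span (t : Set A) ⊔ Ideal.span {a} = Ideal.span ((insert a t : Finset A) : Set A) := by
      rw [Finset.coe_insert, Ideal.span_insert, sup_comm]
    rw [← heq]
    have h := (isCEquiv_stepHom I (Ideal.span (t : Set A)) hsub.1 E hE).comp I (ih hsub.2)
    rw [← Functor.map_comp] at h
    exact h

variable [DRing.HasRgammaI I] [IsNoetherianRing A]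

theorem isCEquiv_ε (K : Dual.D A) : IsCEquiv I ((DRing.RgammaIε I).app K) := by
  obtain ⟨C, _, hinj, k, e, he⟩ := exists_model I K
  rw [← he]
  exact (isCEquiv_of_isIso I e.hom).comp I ((isCEquiv_incl I (IsNoetherian.noetherian I) C
    fun n => haveI := hinj n; isSoft_of_injective (C.X n)).comp I (isCEquiv_of_isIso I k.hom))

theorem greenlees_may [DRing.HasDerivedCompletion I] (K : Dual.D A) :
    Nonempty ((DRing.RgammaI I).obj ((DRing.derivedCompletion I).obj K).obj ≅ (DRing.RgammaI I).obj K) ∧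
    Nonempty ((DRing.derivedCompletion I).obj ((DRing.RgammaI I).obj K) ≅ (DRing.derivedCompletion I).obj K) := by
  haveI h2 := isCEquiv_map I (isCEquiv_ε I K)
  refine ⟨?_, ⟨asIso ((DRing.derivedCompletion I).map ((DRing.RgammaIε I).app K))⟩⟩
  let η := DRing.toDerivedCompletion I K
  let φ := (DRing.RgammaI I).map η
  have hφ : IsCEquiv I φ := by
    intro L hL
    have hη : Function.Bijective (fun ψ : ((DRing.derivedCompletion I).obj K).obj ⟶ L => η ≫ ψ) :=
      DCpl.bijective_toDerivedCompletion I K hL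
    have hε := isCEquiv_ε I K L hL
    have hε' := isCEquiv_ε I ((DRing.derivedCompletion I).obj K).obj L hL
    have heq : (fun ψ => φ ≫ ψ) ∘ (fun ψ => (DRing.RgammaIε I).app ((DRing.derivedCompletion I).obj K).obj ≫ ψ) =
        (fun ψ : K ⟶ L => (DRing.RgammaIε I).app K ≫ ψ) ∘ (fun ψ => η ≫ ψ) := funext fun ψ => by
      have hn := (DRing.RgammaIε I).naturality η
      simp only [Function.comp_apply, ← Category.assoc]
      exact congrArg (· ≫ ψ) hn
    refine (Function.Bijective.of_comp_iff _ hε').1 ?_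
    rw [heq]
    exact hε.comp hη
  obtain ⟨Z, p, δ, hT⟩ := distinguished_cocone_triangle φ
  obtain ⟨s, hs⟩ : I.FG := IsNoetherian.noetherian I
  have hZ : IsZero Z := isZero_of_torsion_lOrth I (IsNoetherian.noetherian I) s.toList
    (fun g hg => hs ▸ Ideal.subset_span (Finset.mem_toList.1 hg)) Z
    (isPowerTorsion_obj₃ I (IsNoetherian.noetherian I) (Triangle.mk φ p δ) hT
      (fun i => isPowerTorsion_HD I _ i) (fun i => isPowerTorsion_HD I _ i))
    ((isCEquiv_iff_lOrth I (Triangle.mk φ p δ) hT).1 hφ) fun g hg => Ideal.le_radical (Ideal.mem_sup_left (by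
      have : {x | x ∈ s.toList} = (s : Set A) := by ext; simp
      rw [this, show Ideal.span (s : Set A) = I from hs]
      exact hg))
  haveI : IsIso φ := (Triangle.isZero₃_iff_isIso₁ _ hT).1 hZ
  exact ⟨(asIso φ).symm⟩

end GrothLib.RGamma
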