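import Groth.Agent.Lib.ExtCech.Functorial
import Mathlib.RingTheory.Flat.Localization
import Mathlib.RingTheory.Flat.Stability
import Mathlib.RingTheory.Flat.Tensor
import Mathlib.LinearAlgebra.TensorProduct.Prod
import Mathlib.Algebra.Module.LocalizedModule.Submodule
import Mathlib.RingTheory.Localization.BaseChange
import Mathlib.Algebra.Category.ModuleCat.Biproducts

/-!
# The terms of the extended Čech complex: finite module tensor flat module, reduction modulo ideals
-/

set_option autoImplicit false
universe u

open CategoryTheory CategoryTheory.Limits CochainComplex DerCA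
open scoped TensorProduct

namespace GrothLib.RGamma

variable {A : Type u} [CommRing A]

/-- A module isomorphic to `M ⊗` flat. -/
def IsTensFlat (M : Type u) [AddCommGroup M] [Module A M] (X : Type u) [AddCommGroup X] [Module A X] : Prop :=
  ∃ (N : ModuleCat.{u} A), Module.Flat A N ∧ Nonempty (X ≃ₗ[A] M ⊗[A] N)

theorem flat_prod {R M N : Type u} [CommRing R] [AddCommGroup M] [Module R M] [AddCommGroup N]
    [Module R N] [Module.Flat R M] [Module.Flat R N] : Module.Flat R (M × N) := by
  refine Module.Flat.iff_rTensor_injective'.mpr fun I => ?_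
  let e := TensorProduct.prodRight R R I M N
  let e' := TensorProduct.prodRight R R R M N
  have key : ∀ z, e' (I.subtype.rTensor (M × N) z) =
      (I.subtype.rTensor M (e z).1, I.subtype.rTensor N (e z).2) := by
    intro z
    induction z with
    | zero => simp only [map_zero, Prod.fst_zero, Prod.snd_zero]; rfl
    | tmul a p => simp [e, e']
    | add a b ha hb => simp only [map_add, Prod.fst_add, Prod.snd_add, ha, hb, Prod.mk_add_mk]
  intro x y hxy
  have h := congrArg e' hxy
  rw [key, key, Prod.mk.injEq] at h
  exact e.injective (Prod.ext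
    (Module.Flat.rTensor_preserves_injective_linearMap _ I.subtype_injective h.1)
    (Module.Flat.rTensor_preserves_injective_linearMap _ I.subtype_injective h.2))

section TensFlat

variable {M : Type u} [AddCommGroup M] [Module A M]
variable {X Y : Type u} [AddCommGroup X] [Module A X] [AddCommGroup Y] [Module A Y]

theorem isTensFlat_of_equiv (e : X ≃ₗ[A] Y) (h : IsTensFlat (A := A) M Y) : IsTensFlat (A := A) M X := by
  obtain ⟨N, hN, ⟨e'⟩⟩ := h
  exact ⟨N, hN, ⟨e.trans e'⟩⟩

theorem isTensFlat_self : IsTensFlat (A := A) M M :=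
  ⟨ModuleCat.of A A, inferInstanceAs (Module.Flat A A), ⟨(TensorProduct.rid A M).symm⟩⟩

theorem isTensFlat_of_subsingleton [Subsingleton X] : IsTensFlat (A := A) M X := by
  refine ⟨ModuleCat.of A PUnit.{u + 1}, inferInstanceAs (Module.Flat A PUnit.{u + 1}), ⟨?_⟩⟩
  haveI : Subsingleton (M ⊗[A] (PUnit.{u + 1} : Type u)) := by
    refine subsingleton_of_forall_eq 0 fun x => ?_
    induction x with
    | zero => rfl
    | tmul m n => rw [Subsingleton.elim n 0, TensorProduct.tmul_zero]
    | add a b ha hb => rw [ha, hb, add_zero]
  exact 0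

theorem isTensFlat_prod (hX : IsTensFlat (A := A) M X) (hY : IsTensFlat (A := A) M Y) :
    IsTensFlat (A := A) M (X × Y) := by
  obtain ⟨N, hN, ⟨e⟩⟩ := hX
  obtain ⟨N', hN', ⟨e'⟩⟩ := hY
  haveI := hN
  haveI := hN'
  haveI : Module.Flat A (N × N') := flat_prod
  refine ⟨ModuleCat.of A (N × N'), ‹Module.Flat A (N × N')›,
    ⟨(e.prodCongr e').trans (TensorProduct.prodRight A A M N N').symm⟩⟩

theorem isTensFlat_localized (S : Submonoid A) (hX : IsTensFlat (A := A) M X) :
    IsTensFlat (A := A) M (LocalizedModule S X) := by
  obtain ⟨N, hN, ⟨e⟩⟩ := hX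
  haveI : Module.Flat A (Localization S) := IsLocalization.flat (Localization S) S
  refine ⟨ModuleCat.of A ((Localization S) ⊗[A] N), inferInstanceAs (Module.Flat A ((Localization S) ⊗[A] N)), ⟨?_⟩⟩
  exact ((LocalizedModule.equivTensorProduct S X).restrictScalars A).trans
    ((TensorProduct.congr (LinearEquiv.refl A (Localization S)) e).trans
      (TensorProduct.leftComm A (Localization S) M N))

end TensFlat

/-- Every term of the extended Čech complex is `M ⊗` flat. -/
theorem isTensFlat_X (M : ModuleCat.{u} A) : ∀ (fs : List A) (p : ℤ),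
    IsTensFlat (A := A) M ((extCech M fs).X p) := by
  intro fs
  induction fs with
  | nil =>
    intro p
    by_cases hp : p = 0
    · subst hp
      exact isTensFlat_of_equiv (HomologicalComplex.singleObjXSelf (ComplexShape.up ℤ) 0 M).toLinearEquiv
        isTensFlat_self
    · haveI : Subsingleton ((extCech M []).X p) :=
        ModuleCat.subsingleton_of_isZero (HomologicalComplex.isZero_single_obj_X _ _ _ _ hp)
      exact isTensFlat_of_subsingleton
  | cons f fs ih =>
    intro p
    exact isTensFlat_of_equiv ((mappingCoconeXIso _ p) ≪≫ ModuleCat.biprodIsoProd _ _).toLinearEquiv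
      (isTensFlat_prod (ih p) (isTensFlat_localized (Submonoid.powers f) (ih (p - 1))))

/-- A surjection whose kernel is `a • ⊤`. -/
def IsModQuot (a : Ideal A) {X Y : Type u} [AddCommGroup X] [Module A X] [AddCommGroup Y] [Module A Y]
    (g : X →ₗ[A] Y) : Prop :=
  Function.Surjective g ∧ LinearMap.ker g = a • (⊤ : Submodule A X)

theorem isModQuot_loc (S : Submonoid A) (a : Ideal A) {X Y : ModuleCat.{u} A} (g : X ⟶ Y)
    (h : IsModQuot a g.hom) : IsModQuot a ((locFunctor S).map g).hom := by
  let g' := IsLocalizedModule.map S (LocalizedModule.mkLinearMap S X) (LocalizedModule.mkLinearMap S Y) g.hom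
  change IsModQuot a g'
  have hmk : ∀ (x : X) (s : S), g' (LocalizedModule.mk x s) = LocalizedModule.mk (g.hom x) s := fun x s => by
    rw [IsLocalizedModule.mk_eq_mk' s x, IsLocalizedModule.mk_eq_mk' s (g.hom x)]
    exact IsLocalizedModule.map_mk' S _ _ _ _ _
  refine ⟨IsLocalizedModule.map_surjective S (LocalizedModule.mkLinearMap S X)
    (LocalizedModule.mkLinearMap S Y) g.hom h.1, le_antisymm ?_ ?_⟩
  · intro z hz
    induction z using LocalizedModule.induction_on with
    | h x s =>
      rw [LinearMap.mem_ker, hmk, IsLocalizedModule.mk_eq_mk' s (g.hom x),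
        IsLocalizedModule.mk'_eq_zero'] at hz
      obtain ⟨t, ht⟩ := hz
      have hmem : (t : A) • x ∈ a • (⊤ : Submodule A X) := by
        rw [← h.2, LinearMap.mem_ker, map_smul]
        exact ht
      have hall : ∀ w ∈ a • (⊤ : Submodule A X), ∀ s' : S,
          LocalizedModule.mk w s' ∈ a • (⊤ : Submodule A (LocalizedModule S X)) := by
        intro w hw s'
        induction hw using Submodule.smul_induction_on' with
        | smul r hr y _ =>
          rw [← LocalizedModule.smul'_mk]
          exact Submodule.smul_mem_smul hr trivial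
        | add y _ y' _ ih ih' =>
          have hadd : LocalizedModule.mk (y + y') s' = LocalizedModule.mk y s' + LocalizedModule.mk y' s' := by
            simp only [IsLocalizedModule.mk_eq_mk']
            exact IsLocalizedModule.mk'_add _ _ _ _
          rw [hadd]
          exact add_mem ih ih'
      have := hall _ hmem (t * s)
      rwa [← Submonoid.smul_def, LocalizedModule.mk_cancel_common_left] at this
  · refine Submodule.smul_le.2 fun r hr z _ => ?_
    induction z using LocalizedModule.induction_on with
    | h x s =>
      have hx : g.hom (r • x) = 0 := by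
        rw [← LinearMap.mem_ker, h.2]
        exact Submodule.smul_mem_smul hr trivial
      rw [LinearMap.mem_ker, LocalizedModule.smul'_mk, hmk, hx, LocalizedModule.zero_mk]

variable {M M' : ModuleCat.{u} A}

/-- Reduction of the module reduces the terms. -/
theorem isModQuot_cxMap (a : Ideal A) (g : M ⟶ M') (hg : IsModQuot a g.hom) :
    ∀ (fs : List A) (p : ℤ), IsModQuot a ((ExtCech.cxMap g fs).f p).hom := by
  intro fs
  induction fs with
  | nil =>
    intro p
    change IsModQuot a (((HomologicalComplex.single (ModuleCat.{u} A) (ComplexShape.up ℤ) 0).map g).f p).hom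
    by_cases hp : p = 0
    · subst hp
      let e := (HomologicalComplex.singleObjXSelf (ComplexShape.up ℤ) 0 M).toLinearEquiv
      let e' := (HomologicalComplex.singleObjXSelf (ComplexShape.up ℤ) 0 M').toLinearEquiv
      have he : (((HomologicalComplex.single (ModuleCat.{u} A) (ComplexShape.up ℤ) 0).map g).f 0).hom =
          e'.symm.toLinearMap ∘ₗ g.hom ∘ₗ e.toLinearMap :=
        congrArg ModuleCat.Hom.hom (HomologicalComplex.single_map_f_self (ComplexShape.up ℤ) 0 g)
      rw [he]
      refine ⟨e'.symm.surjective.comp (hg.1.comp e.surjective), ?_⟩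
      rw [LinearMap.ker_comp_of_ker_eq_bot _ e'.symm.ker, LinearMap.ker_comp, hg.2]
      apply Submodule.map_injective_of_injective (f := e.toLinearMap) e.injective
      rw [Submodule.map_comap_eq_of_surjective e.surjective, Submodule.map_smul'', Submodule.map_top,
        LinearEquiv.range]
    · haveI : Subsingleton ((extCech M []).X p) :=
        ModuleCat.subsingleton_of_isZero (HomologicalComplex.isZero_single_obj_X _ _ _ _ hp)
      haveI : Subsingleton ((extCech M' []).X p) :=
        ModuleCat.subsingleton_of_isZero (HomologicalComplex.isZero_single_obj_X _ _ _ _ hp)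
      refine ⟨fun y => ⟨0, Subsingleton.elim (α := (extCech M' []).X p) _ _⟩, Submodule.ext fun x => ?_⟩
      rw [Subsingleton.elim (α := (extCech M []).X p) x 0]
      exact iff_of_true (zero_mem _) (zero_mem _)
  | cons f fs ih =>
    intro p
    have h1 := ih p
    have h2 := isModQuot_loc (Submonoid.powers f) a _ (ih (p - 1))
    let φ := locCxUnit (Submonoid.powers f) (extCech M fs)
    let φ' := locCxUnit (Submonoid.powers f) (extCech M' fs)
    refine ⟨fun z => ?_, le_antisymm (fun x hx => ?_) ?_⟩
    · obtain ⟨y, hy⟩ := h1.1 (((mappingCocone.fst φ').f p).hom z)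
      obtain ⟨y', hy'⟩ := h2.1 (((mappingCocone.snd φ').v p (p - 1) (by omega)).hom z)
      obtain ⟨w, hw1, hw2⟩ := ExtCech.exists_cocone_elt φ y y'
      exact ⟨w, ExtCech.cocone_ext_apply φ'
        (((ExtCech.cxMap_fst g f fs p w).trans (congrArg _ hw1)).trans hy)
        (((ExtCech.cxMap_snd g f fs p w).trans (congrArg _ hw2)).trans hy')⟩
    · rw [LinearMap.mem_ker] at hx
      let x₁ := ((mappingCocone.fst φ).f p).hom x
      let x₂ := ((mappingCocone.snd φ).v p (p - 1) (by omega)).hom x
      have hx₁ : x₁ ∈ a • (⊤ : Submodule A ((extCech M fs).X p)) := by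
        rw [← h1.2, LinearMap.mem_ker]
        exact ((ExtCech.cxMap_fst g f fs p x).symm.trans (congrArg _ hx)).trans (map_zero _)
      have hx₂ : x₂ ∈ a • (⊤ : Submodule A (((locCx (Submonoid.powers f)).obj (extCech M fs)).X (p - 1))) := by
        exact h2.2.le (LinearMap.mem_ker.2
          (((ExtCech.cxMap_snd g f fs p x).symm.trans (congrArg _ hx)).trans (map_zero _)))
      have key : x = ((mappingCocone.inl φ).v p p (add_zero p)).hom x₁ +
          ((mappingCocone.inr φ).1.v (p - 1) p (by omega)).hom x₂ := by
        have e := congrArg (fun k => k.hom x) (mappingCocone.id_X φ p (p - 1) (by omega))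
        exact e.symm
      rw [key]
      refine Submodule.add_mem _ ?_ ?_
      · exact Submodule.smul_mono le_rfl le_top
          ((Submodule.map_smul'' a ⊤ _).le (Submodule.mem_map_of_mem hx₁))
      · exact Submodule.smul_mono le_rfl le_top
          ((Submodule.map_smul'' a ⊤ _).le (Submodule.mem_map_of_mem hx₂))
    · refine Submodule.smul_le.2 fun r hr x _ => LinearMap.mem_ker.2 (ExtCech.cocone_ext_apply φ' ?_ ?_)
      · refine ((ExtCech.cxMap_fst g f fs p (r • x)).trans ?_).trans (map_zero _).symm
        exact LinearMap.mem_ker.1 (h1.2.ge ((map_smul ((mappingCocone.fst φ).f p).hom r x).symm ▸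
          Submodule.smul_mem_smul hr trivial))
      · refine ((ExtCech.cxMap_snd g f fs p (r • x)).trans ?_).trans
          (map_zero ((mappingCocone.snd φ').v p (p - 1) (by omega)).hom).symm
        change ((locFunctor (Submonoid.powers f)).map ((ExtCech.cxMap g fs).f (p - 1))).hom _ =
          (0 : ((locFunctor (Submonoid.powers f)).obj ((extCech M' fs).X (p - 1))))
        exact LinearMap.mem_ker.1 (h2.2.ge ((map_smul ((mappingCocone.snd φ).v p (p - 1) (by omega)).hom r x).symm ▸
          Submodule.smul_mem_smul hr trivial))

end GrothLib.RGamma
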