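import Groth.Agent.Lib.RGamma.CechTerms
import Groth.Agent.Lib.RGamma.CechModel
import Groth.Agent.Lib.RGamma.GM
import Groth.Agent.Lib.DCxRing.DComplete.FlatCompletion
import Groth.Agent.Lib.DCxRing.DComplete.Triangle

/-!
# Termwise completion of bounded complexes with terms `M ⊗` flat
-/

set_option autoImplicit false
universe u

open CategoryTheory CategoryTheory.Limits CochainComplex Pretriangulated DerCA

attribute [local instance] HasDerivedCategory.standard

namespace GrothLib.RGamma

variable {A : Type u} [CommRing A] (I : Ideal A)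

/-- The adic completion as an endofunctor. -/
noncomputable def hatF : ModuleCat.{u} A ⥤ ModuleCat.{u} A where
  obj X := ModuleCat.of A (AdicCompletion I X)
  map f := ModuleCat.ofHom ((AdicCompletion.map I f.hom).restrictScalars A)
  map_id X := by
    refine ModuleCat.hom_ext (LinearMap.ext fun x => ?_)
    exact AdicCompletion.ext fun n => by
      obtain ⟨y, hy⟩ := Submodule.Quotient.mk_surjective _ (x.val n)
      simp [← hy]
  map_comp f g := by
    refine ModuleCat.hom_ext (LinearMap.ext fun x => ?_)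
    exact (AdicCompletion.map_comp_apply I f.hom g.hom x).symm

instance : (hatF I).Additive where
  map_add {X Y f g} := by
    refine ModuleCat.hom_ext (LinearMap.ext fun x => AdicCompletion.ext fun n => ?_)
    obtain ⟨y, hy⟩ := Submodule.Quotient.mk_surjective _ (x.val n)
    change (f.hom + g.hom).reduceModIdeal (I ^ n) (x.val n) =
      f.hom.reduceModIdeal (I ^ n) (x.val n) + g.hom.reduceModIdeal (I ^ n) (x.val n)
    rw [← hy]
    rfl

/-- The map to the completion. -/
noncomputable def hatUnit : 𝟭 (ModuleCat.{u} A) ⟶ hatF I where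
  app X := ModuleCat.ofHom (AdicCompletion.of I X)
  naturality X Y f := ModuleCat.hom_ext (LinearMap.ext fun x => (AdicCompletion.map_of I f.hom x).symm)

/-- Termwise completion. -/
noncomputable abbrev hatCx (C : DRing.Cx A) : DRing.Cx A :=
  ((hatF I).mapHomologicalComplex (ComplexShape.up ℤ)).obj C

/-- The map to the termwise completion. -/
noncomputable def toHat (C : DRing.Cx A) : C ⟶ hatCx I C where
  f i := (hatUnit I).app (C.X i)
  comm' i j _ := ((hatUnit I).naturality (C.d i j)).symm

theorem toHat_naturality {C C' : DRing.Cx A} (φ : C ⟶ C') :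
    φ ≫ toHat I C' = toHat I C ≫ ((hatF I).mapHomologicalComplex (ComplexShape.up ℤ)).map φ := by
  ext i : 1
  exact (hatUnit I).naturality (φ.f i)

/-- The termwise completion is the derived completion. -/
def IsHatGood (C : DRing.Cx A) : Prop :=
  IsCEquiv I (DerivedCategory.Q.map (toHat I C)) ∧
    DRing.IsDerivedComplete I (DerivedCategory.Q.obj (hatCx I C))

theorem isCEquiv_arrow_iso {X Y X' Y' : Dual.D A} {φ : X ⟶ Y} {φ' : X' ⟶ Y'} (eX : X' ≅ X) (eY : Y' ≅ Y)
    (h : eX.hom ≫ φ = φ' ≫ eY.hom) (hφ : IsCEquiv I φ) : IsCEquiv I φ' := by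
  have : φ' = eX.hom ≫ φ ≫ eY.inv := by rw [reassoc_of% h]; simp
  rw [this]
  exact (isCEquiv_of_isIso I eX.hom).comp I (hφ.comp I (isCEquiv_of_isIso I eY.inv))

theorem isDerivedComplete_of_iso {X Y : Dual.D A} (e : X ≅ Y) (h : DRing.IsDerivedComplete I X) :
    DRing.IsDerivedComplete I Y := by
  rw [DCpl.isDerivedComplete_iff] at h ⊢
  exact fun f hf => DCpl.dcObj_of_iso e (h f hf)

theorem isHatGood_of_iso {C C' : DRing.Cx A} (e : C ≅ C') (h : IsHatGood I C) : IsHatGood I C' := by
  let eh := ((hatF I).mapHomologicalComplex (ComplexShape.up ℤ)).mapIso e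
  refine ⟨isCEquiv_arrow_iso I (DerivedCategory.Q.mapIso e.symm) (DerivedCategory.Q.mapIso eh.symm) ?_ h.1,
    isDerivedComplete_of_iso I (DerivedCategory.Q.mapIso eh) h.2⟩
  change DerivedCategory.Q.map e.inv ≫ DerivedCategory.Q.map _ = DerivedCategory.Q.map _ ≫ DerivedCategory.Q.map eh.inv
  rw [← Functor.map_comp, ← Functor.map_comp]
  exact congrArg DerivedCategory.Q.map (toHat_naturality I e.inv)

theorem isHatGood_of_isZero {C : DRing.Cx A} (h : IsZero C) : IsHatGood I C := by
  have h' : IsZero (hatCx I C) := Functor.map_isZero _ h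
  haveI : IsIso (toHat I C) := h.isIso h' _
  refine ⟨isCEquiv_of_isIso I _, fun f _ n => ?_⟩
  exact ⟨fun a b => (Functor.map_isZero _ (Functor.map_isZero _ h')).eq_of_tgt a b⟩

theorem isCEquiv_shift [IsNoetherianRing A] {X Y : Dual.D A} {φ : X ⟶ Y} (h : IsCEquiv I φ) (k : ℤ) :
    IsCEquiv I (φ⟦k⟧') := by
  obtain ⟨s, hs⟩ : I.FG := IsNoetherian.noetherian I
  intro L hL
  exact DCpl.isReflection_shift (fun E hE => h E (DCpl.isDerivedComplete_of_span hs E hE)) k L
    fun x hx => (DCpl.isDerivedComplete_iff I L).1 hL x (hs ▸ Ideal.subset_span hx)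

/-- Completion of a module `M ⊗` flat in degree zero. -/
theorem isHatGood_module [IsNoetherianRing A] {M : Type u} [AddCommGroup M] [Module A M] [Module.Finite A M]
    (X : ModuleCat.{u} A) (hX : IsTensFlat (A := A) M X) :
    IsCEquiv I ((DerivedCategory.singleFunctor (ModuleCat.{u} A) 0).map ((hatUnit I).app X)) ∧
      DRing.IsDerivedComplete I ((DerivedCategory.singleFunctor (ModuleCat.{u} A) 0).obj ((hatF I).obj X)) := by
  obtain ⟨N, hN, ⟨e⟩⟩ := hX
  haveI := hN
  let T := ModuleCat.of A (TensorProduct A M N)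
  let η := DerivedCategory.singleFunctor (ModuleCat.{u} A) 0
  have h1 : IsCEquiv I (η.map ((hatUnit I).app T)) := fun L hL => DCpl.bijective_toHatD I M N hL
  refine ⟨?_, isDerivedComplete_of_iso I (η.mapIso ((hatF I).mapIso e.symm.toModuleIso))
    (DCpl.isDerivedComplete_hatD I M N)⟩
  refine isCEquiv_arrow_iso I (η.mapIso e.toModuleIso) (η.mapIso ((hatF I).mapIso e.toModuleIso)) ?_ h1
  change η.map e.toModuleIso.hom ≫ η.map ((hatUnit I).app T) =
    η.map ((hatUnit I).app X) ≫ η.map ((hatF I).map e.toModuleIso.hom)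
  rw [← Functor.map_comp, ← Functor.map_comp]
  exact congrArg η.map ((hatUnit I).naturality e.toModuleIso.hom)

/-- A single module `M ⊗` flat. -/
theorem isHatGood_single [IsNoetherianRing A] {M : Type u} [AddCommGroup M] [Module A M] [Module.Finite A M]
    (X : ModuleCat.{u} A) (hX : IsTensFlat (A := A) M X) (n : ℤ) :
    IsHatGood I ((HomologicalComplex.single (ModuleCat.{u} A) (ComplexShape.up ℤ) n).obj X) := by
  let η := DerivedCategory.singleFunctor (ModuleCat.{u} A) 0
  obtain ⟨h2, hd⟩ := isHatGood_module I X hX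
  -- shift to degree `n`
  let ηn := DerivedCategory.singleFunctor (ModuleCat.{u} A) n
  let sh := (DerivedCategory.singleFunctors (ModuleCat.{u} A)).shiftIso (-n) n 0 (by omega)
  have h3 : IsCEquiv I (ηn.map ((hatUnit I).app X)) := by
    refine isCEquiv_arrow_iso I (sh.app X).symm (sh.app ((hatF I).obj X)).symm ?_
      (φ := (η.map ((hatUnit I).app X))⟦-n⟧') ?_
    · exact (sh.inv.naturality ((hatUnit I).app X)).symm
    · exact isCEquiv_shift I h2 (-n)
  have hd3 : DRing.IsDerivedComplete I (ηn.obj ((hatF I).obj X)) :=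
    isDerivedComplete_of_iso I (sh.app _) (isDerivedComplete_shift I hd (-n))
  -- transport to complexes
  let Sn := HomologicalComplex.single (ModuleCat.{u} A) (ComplexShape.up ℤ) n
  let sI : ηn ≅ Sn ⋙ DerivedCategory.Q := (SingleFunctors.evaluation _ _ n).mapIso
    (DerivedCategory.singleFunctorsPostcompQIso (ModuleCat.{u} A))
  let comm := HomologicalComplex.singleMapHomologicalComplex (hatF I) (ComplexShape.up ℤ) n
  have hcomm : Sn.map ((hatUnit I).app X) = toHat I (Sn.obj X) ≫ comm.hom.app X := by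
    refine HomologicalComplex.from_single_hom_ext ?_
    rw [HomologicalComplex.single_map_f_self, HomologicalComplex.comp_f,
      HomologicalComplex.singleMapHomologicalComplex_hom_app_self]
    change _ = (hatUnit I).app _ ≫ _
    exact (hatUnit I).naturality_assoc (HomologicalComplex.singleObjXSelf (ComplexShape.up ℤ) n X).hom _
  refine ⟨isCEquiv_arrow_iso I (sI.app X).symm ((DerivedCategory.Q.mapIso (comm.app X)) ≪≫ (sI.app _).symm) ?_ h3,
    isDerivedComplete_of_iso I ((sI.app _) ≪≫ (DerivedCategory.Q.mapIso (comm.app X)).symm) hd3⟩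
  change sI.inv.app X ≫ ηn.map ((hatUnit I).app X) =
    DerivedCategory.Q.map (toHat I (Sn.obj X)) ≫ DerivedCategory.Q.map (comm.hom.app X) ≫ sI.inv.app _
  rw [← Category.assoc (DerivedCategory.Q.map _), ← Functor.map_comp, ← hcomm]
  exact (sI.inv.naturality ((hatUnit I).app X)).symm

/-- Extensions. -/
theorem isHatGood_of_ses [IsNoetherianRing A] (S : ShortComplex (DRing.Cx A)) (hS : ∀ i : ℤ,
      Nonempty (S.map (HomologicalComplex.eval (ModuleCat.{u} A) (ComplexShape.up ℤ) i)).Splitting)
    (h₁ : IsHatGood I S.X₁) (h₃ : IsHatGood I S.X₃) : IsHatGood I S.X₂ := by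
  have hse : S.ShortExact := HomologicalComplex.shortExact_of_degreewise_shortExact _ fun i =>
    (hS i).some.shortExact
  let F := (hatF I).mapHomologicalComplex (ComplexShape.up ℤ)
  have hse' : (S.map F).ShortExact := HomologicalComplex.shortExact_of_degreewise_shortExact _ fun i =>
    ((hS i).some.map (hatF I)).shortExact
  let m : S ⟶ S.map F :=
    { τ₁ := toHat I _, τ₂ := toHat I _, τ₃ := toHat I _
      comm₁₂ := (toHat_naturality I S.f).symm
      comm₂₃ := (toHat_naturality I S.g).symm }
  let f := DerivedCategory.triangleOfSES.map hse hse' m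
  have hT := DerivedCategory.triangleOfSES_distinguished hse
  have hT' := DerivedCategory.triangleOfSES_distinguished hse'
  refine ⟨?_, ?_⟩
  · obtain ⟨s, hs⟩ : I.FG := IsNoetherian.noetherian I
    have href : ∀ {X Y : Dual.D A} {φ : X ⟶ Y}, IsCEquiv I φ → DCpl.IsReflection s φ := fun h E hE =>
      h E (DCpl.isDerivedComplete_of_span hs E hE)
    let g := (invRotate (Dual.D A)).map f
    have := DCpl.isReflection_third (inv_rot_of_distTriang _ hT) (inv_rot_of_distTriang _ hT') g.hom₁ g.hom₂ g.hom₃
      g.comm₁ g.comm₂ g.comm₃ (DCpl.isReflection_shift (href h₃.1) (-1)) (href h₁.1)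
    intro L hL
    exact this L fun x hx => (DCpl.isDerivedComplete_iff I L).1 hL x (hs ▸ Ideal.subset_span hx)
  · intro a ha n
    refine ⟨fun x y => sub_eq_zero.1 ?_⟩
    let T' := DerivedCategory.triangleOfSES hse'
    have h0 : (x - y) ≫ ((Triangle.shiftFunctor _ n).obj T').mor₂ = 0 :=
      (h₃.2 a ha n).elim _ _
    obtain ⟨z, hz⟩ := Triangle.coyoneda_exact₂ _ (Triangle.shift_distinguished _ hT' n) (x - y) h0
    rw [hz, (h₁.2 a ha n).elim z 0]
    exact zero_comp

end GrothLib.RGamma
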