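import Mathlib.RingTheory.Filtration
import Mathlib.RingTheory.Localization.Submodule
import Mathlib.Algebra.Module.LocalizedModule.Basic
import Mathlib.RingTheory.Localization.Finiteness

/-!
# The Krull intersection theorem in a localised module
-/

set_option autoImplicit false
universe u

namespace GrothLib.RGamma

variable {A : Type u} [CommRing A] [IsNoetherianRing A] (I : Ideal A)
  {M : Type u} [AddCommGroup M] [Module A M] [Module.Finite A M]

theorem exists_kill_aux (S : Submonoid A) (Ag : Type u) [CommRing Ag] [Algebra A Ag] [IsLocalization S Ag]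
    {X : Type u} [AddCommGroup X] [Module A X] [Module Ag X] [IsScalarTower A Ag X] (f : M →ₗ[A] X)
    [IsLocalizedModule S f] (s : M) (h : ∀ n : ℕ, f s ∈ I ^ n • (⊤ : Submodule A X)) :
    ∃ a ∈ I, ∃ c ∈ S, ∃ d ∈ S, (d * (c - a)) • s = 0 := by
  haveI : IsNoetherianRing Ag := IsLocalization.isNoetherianRing S Ag inferInstance
  haveI : Module.Finite Ag X := Module.Finite.of_isLocalizedModule S f
  have hle : ∀ (n : ℕ) (y : X), y ∈ I ^ n • (⊤ : Submodule A X) →
      y ∈ (I ^ n).map (algebraMap A Ag) • (⊤ : Submodule Ag X) := fun n y hy => by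
    refine Submodule.smul_induction_on hy (fun r hr m _ => ?_) fun a b ha hb => add_mem ha hb
    rw [← algebraMap_smul Ag r m]
    exact Submodule.smul_mem_smul (Ideal.mem_map_of_mem _ hr) trivial
  have hx : f s ∈ (⨅ n : ℕ, (I.map (algebraMap A Ag)) ^ n • ⊤ : Submodule Ag X) := by
    rw [Submodule.mem_iInf]
    intro n
    rw [← Ideal.map_pow]
    exact hle n _ (h n)
  obtain ⟨⟨r, hr⟩, hrx⟩ := (Ideal.mem_iInf_smul_pow_eq_bot_iff _ _).1 hx
  obtain ⟨⟨⟨a, ha⟩, ⟨c, hc⟩⟩, hac⟩ := (IsLocalization.mem_map_algebraMap_iff S Ag).1 hr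
  have hk' : c • f s = a • f s := by
    rw [← algebraMap_smul Ag c, ← algebraMap_smul Ag a,
      show algebraMap A Ag a = r * algebraMap A Ag c from hac.symm, mul_comm, mul_smul]
    exact (congrArg (algebraMap A Ag c • ·) hrx).symm
  have h5 : f ((c - a) • s) = 0 := by
    rw [map_smul, sub_smul]
    exact sub_eq_zero.2 hk'
  obtain ⟨⟨d, hd⟩, hds⟩ := (IsLocalizedModule.eq_zero_iff S f).1 h5
  exact ⟨a, ha, c, hc, d, hd, by rw [mul_smul]; exact hds⟩

/-- An element divisible by all powers of `I` in a localisation is killed by `c - a` times a denominator. -/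
theorem exists_kill_of_mem_pow (S : Submonoid A) (s : M)
    (h : ∀ n : ℕ, LocalizedModule.mkLinearMap S M s ∈ I ^ n • (⊤ : Submodule A (LocalizedModule S M))) :
    ∃ a ∈ I, ∃ c ∈ S, ∃ d ∈ S, (d * (c - a)) • s = 0 :=
  exists_kill_aux I S (Localization S) (LocalizedModule.mkLinearMap S M) s h

end GrothLib.RGamma
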