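import Groth.Agent.Lib.DCxRing.DComplete.Step
import Groth.Agent.Lib.BCCoh.Products

/-!
# Countable products of complexes of modules are products in the derived category
-/

set_option autoImplicit false
universe u

open CategoryTheory CategoryTheory.Limits HomologicalComplex CochainComplex Pretriangulated

attribute [local instance] HasDerivedCategory.standard

namespace GrothLib.RGamma

variable {A : Type u} [CommRing A] (D : ℕ → DRing.Cx A)

/-- The termwise product of complexes. -/
noncomputable def piCx : DRing.Cx A where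
  X i := ModuleCat.of A ((n : ℕ) → (D n).X i)
  d i j := ModuleCat.ofHom (LinearMap.pi fun n => ((D n).d i j).hom.comp (LinearMap.proj n))
  shape i j h := by
    refine ModuleCat.hom_ext (LinearMap.ext fun x => funext fun n => ?_)
    simp [(D n).shape i j h]
    rfl
  d_comp_d' i j k _ _ := by
    refine ModuleCat.hom_ext (LinearMap.ext fun x => funext fun n => ?_)
    exact LinearMap.congr_fun (congrArg ModuleCat.Hom.hom ((D n).d_comp_d i j k)) (x n)

/-- A projection. -/
noncomputable def piProj (n : ℕ) : piCx D ⟶ D n where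
  f i := ModuleCat.ofHom (LinearMap.proj n)
  comm' _ _ _ := rfl

/-- A family of maps as a map into the product. -/
noncomputable def piLift {P : DRing.Cx A} (x : ∀ n, P ⟶ D n) : P ⟶ piCx D where
  f i := ModuleCat.ofHom (LinearMap.pi fun n => ((x n).f i).hom)
  comm' i j _ := by
    refine ModuleCat.hom_ext (LinearMap.ext fun p => funext fun n => ?_)
    exact LinearMap.congr_fun (congrArg ModuleCat.Hom.hom ((x n).comm i j)) p

theorem piLift_proj {P : DRing.Cx A} (x : ∀ n, P ⟶ D n) (n : ℕ) : piLift D x ≫ piProj D n = x n := rfl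

/-- Homotopic components give homotopic maps into the product. -/
theorem nonempty_homotopy_pi {P : DRing.Cx A} (F G : P ⟶ piCx D)
    (h : ∀ n, Nonempty (Homotopy (F ≫ piProj D n) (G ≫ piProj D n))) : Nonempty (Homotopy F G) := by
  let H := fun n => (h n).some
  let hom : ∀ i j : ℤ, P.X i ⟶ (piCx D).X j := fun i j =>
    ModuleCat.ofHom (LinearMap.pi fun n => ((H n).hom i j).hom)
  refine ⟨{ hom := hom, zero := fun i j hij => ?_, comm := fun i => ?_ }⟩
  · refine ModuleCat.hom_ext (LinearMap.ext fun p => funext fun n => ?_)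
    change ((H n).hom i j).hom p = 0
    rw [(H n).zero i j hij]
    rfl
  · rw [dNext_eq hom (show (ComplexShape.up ℤ).Rel i (i + 1) from rfl),
      prevD_eq hom (show (ComplexShape.up ℤ).Rel (i - 1) i by simp)]
    refine ModuleCat.hom_ext (LinearMap.ext fun p => funext fun n => ?_)
    have hc := (H n).comm i
    rw [dNext_eq (H n).hom (show (ComplexShape.up ℤ).Rel i (i + 1) from rfl),
      prevD_eq (H n).hom (show (ComplexShape.up ℤ).Rel (i - 1) i by simp)] at hc
    exact LinearMap.congr_fun (congrArg ModuleCat.Hom.hom hc) p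

/-- Products are exact. -/
theorem quasiIso_piMap {J : ℕ → DRing.Cx A} (φ : ∀ n, D n ⟶ J n) [∀ n, QuasiIso (φ n)] :
    QuasiIso (piLift J fun n => piProj D n ≫ φ n) := by
  refine (quasiIso_iff _).2 fun i => (quasiIsoAt_iff_isIso_homologyMap _ i).2
    ((ConcreteCategory.isIso_iff_bijective _).2 ?_)
  have hD := BCCoh.bijective_homologyMap_of_bijective (C := piCx D) (J := ULift.{u} ℕ) (fun n => D n.down)
    (fun n => piProj D n.down) (fun k => ⟨fun x y h => funext fun n => congrFun h ⟨n⟩,
      fun y => ⟨fun n => y ⟨n⟩, rfl⟩⟩) i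
  have hJ := BCCoh.bijective_homologyMap_of_bijective (C := piCx J) (J := ULift.{u} ℕ) (fun n => J n.down)
    (fun n => piProj J n.down) (fun k => ⟨fun x y h => funext fun n => congrFun h ⟨n⟩,
      fun y => ⟨fun n => y ⟨n⟩, rfl⟩⟩) i
  have hφ : ∀ n, Function.Bijective (HomologicalComplex.homologyMap (φ n) i).hom := fun n =>
    ConcreteCategory.bijective_of_isIso (HomologicalComplex.homologyMap (φ n) i)
  refine (Function.Bijective.of_comp_iff' hJ _).1 ?_
  have : (fun (x : (piCx J).homology i) (n : ULift.{u} ℕ) => HomologicalComplex.homologyMap (piProj J n.down) i x) ∘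
      (HomologicalComplex.homologyMap (piLift J fun n => piProj D n ≫ φ n) i) =
      (fun (y : ∀ n : ULift.{u} ℕ, (D n.down).homology i) n => (HomologicalComplex.homologyMap (φ n.down) i) (y n)) ∘
      fun (x : (piCx D).homology i) (n : ULift.{u} ℕ) => HomologicalComplex.homologyMap (piProj D n.down) i x := by
    funext x n
    simp only [Function.comp_apply]
    rw [← ConcreteCategory.comp_apply, ← HomologicalComplex.homologyMap_comp, piLift_proj,
      HomologicalComplex.homologyMap_comp]
    rfl
  rw [this]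
  exact (Function.Bijective.piMap fun n : ULift.{u} ℕ => hφ n.down).comp hD

theorem bijective_of_isKInjective [∀ n, (D n).IsKInjective] (X : Dual.D A) :
    Function.Bijective (fun (g : X ⟶ DRing.toD (piCx D)) n => g ≫ DerivedCategory.Q.map (piProj D n)) := by
  haveI : (piCx D).IsKInjective := ⟨fun φ hK => nonempty_homotopy_pi D φ 0 fun n => by
    rw [zero_comp]
    exact CochainComplex.IsKInjective.nonempty_homotopy_zero (φ ≫ piProj D n) hK⟩
  obtain ⟨P, ⟨eP⟩⟩ : ∃ P : DRing.Cx A, Nonempty (DRing.toD P ≅ X) :=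
    ⟨_, ⟨DerivedCategory.Q.objObjPreimageIso X⟩⟩
  refine ⟨fun g g' h => ?_, fun ξ => ?_⟩
  · obtain ⟨x, hx⟩ := DR.exists_lift_inj (eP.hom ≫ g)
    obtain ⟨y, hy⟩ := DR.exists_lift_inj (eP.hom ≫ g')
    obtain ⟨H⟩ := nonempty_homotopy_pi D x y fun n => by
      refine ⟨HomotopyCategory.homotopyOfEq _ _ ((CochainComplex.IsKInjective.Qh_map_bijective _ (D n)).1 ?_)⟩
      have h1 : DerivedCategory.Q.map (x ≫ piProj D n) = DerivedCategory.Q.map (y ≫ piProj D n) := by
        rw [Functor.map_comp, Functor.map_comp, hx, hy, Category.assoc, Category.assoc]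
        exact congrArg (eP.hom ≫ ·) (congrFun h n)
      let eA := DerivedCategory.quotientCompQhIso (ModuleCat.{u} A)
      have key : ∀ u : P ⟶ D n, DerivedCategory.Qh.map ((HomotopyCategory.quotient _ _).map u) =
          eA.hom.app P ≫ DerivedCategory.Q.map u ≫ eA.inv.app (D n) := fun u => by
        have h := eA.hom.naturality u
        simp only [Functor.comp_map] at h
        rw [← Category.assoc, ← h, Category.assoc, Iso.hom_inv_id_app]
        exact (Category.comp_id _).symm
      simp only [key, h1]
    rw [← cancel_epi eP.hom, ← hx, ← hy, DerivedCategory.Q_map_eq_of_homotopy _ H]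
  · choose x hx using fun n => DR.exists_lift_inj (eP.hom ≫ ξ n)
    refine ⟨eP.inv ≫ DerivedCategory.Q.map (piLift D x), funext fun n => ?_⟩
    simp only [Category.assoc]
    rw [← Functor.map_comp, piLift_proj, hx, eP.inv_hom_id_assoc]

/-- The product of complexes is a product in the derived category. -/
theorem bijective_piProj (X : Dual.D A) :
    Function.Bijective (fun (g : X ⟶ DRing.toD (piCx D)) n => g ≫ DerivedCategory.Q.map (piProj D n)) := by
  choose J φ hφ hJ _ using fun n => KInj.exists_kInjective_resolution (ModuleCat.{u} A) (D n)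
  haveI := hφ
  haveI := hJ
  haveI : ∀ n, IsIso (DerivedCategory.Q.map (φ n)) := fun n => Localization.inverts _
    (HomologicalComplex.quasiIso _ (ComplexShape.up ℤ)) _ (hφ n)
  let Φ := DerivedCategory.Q.map (piLift J fun n => piProj D n ≫ φ n)
  haveI : IsIso Φ := Localization.inverts _ (HomologicalComplex.quasiIso _ (ComplexShape.up ℤ)) _
    (quasiIso_piMap D φ)
  have h1 : (fun (g : X ⟶ DRing.toD (piCx D)) n => g ≫ DerivedCategory.Q.map (piProj D n)) =
      (fun (ξ : ∀ n, X ⟶ DRing.toD (J n)) n => ξ n ≫ inv (DerivedCategory.Q.map (φ n))) ∘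
        (fun (g : X ⟶ DRing.toD (piCx J)) n => g ≫ DerivedCategory.Q.map (piProj J n)) ∘ (fun g => g ≫ Φ) := by
    funext g n
    simp only [Function.comp_apply, Category.assoc, Φ, ← Functor.map_comp_assoc, piLift_proj]
    simp
  rw [h1]
  have hb : ∀ n, Function.Bijective
      (fun ξ : X ⟶ DRing.toD (J n) => ξ ≫ inv (DerivedCategory.Q.map (φ n))) := fun n =>
    ⟨fun a b h => (cancel_mono _).1 h, fun b => ⟨b ≫ DerivedCategory.Q.map (φ n), by simp⟩⟩
  have hc : Function.Bijective (fun g : X ⟶ DRing.toD (piCx D) => g ≫ Φ) :=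
    ⟨fun a b h => (cancel_mono Φ).1 h, fun b => ⟨b ≫ inv Φ, by simp⟩⟩
  exact (Function.Bijective.piMap hb).comp ((bijective_of_isKInjective J X).comp hc)

/-- The product of complexes as a categorical product. -/
theorem exists_iso_product [HasProduct fun n => DRing.toD (D n)] :
    ∃ e : DRing.toD (piCx D) ≅ ∏ᶜ fun n => DRing.toD (D n),
      ∀ n, e.hom ≫ Pi.π _ n = DerivedCategory.Q.map (piProj D n) := by
  let φ : DRing.toD (piCx D) ⟶ ∏ᶜ fun n => DRing.toD (D n) :=
    Pi.lift fun n => DerivedCategory.Q.map (piProj D n)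
  haveI : IsIso φ := by
    refine isIso_of_yoneda_map_bijective φ fun X => ?_
    have hb := bijective_piProj D X
    refine ⟨fun a b h => hb.1 (funext fun n => ?_), fun b => ?_⟩
    · have := congrArg (· ≫ Pi.π _ n) h
      simpa [φ] using this
    · obtain ⟨a, ha⟩ := hb.2 fun n => b ≫ Pi.π _ n
      refine ⟨a, Pi.hom_ext _ _ fun n => ?_⟩
      simpa [φ] using congrFun ha n
  exact ⟨asIso φ, fun n => by simp [φ]⟩

end GrothLib.RGamma
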