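import Groth.Agent.Lib.RGamma.Classes
import Groth.Agent.Lib.LC.ChangeSeq
import Groth.Agent.Lib.LC.Loc
import Groth.Agent.Lib.InjMod.Noetherian
import Groth.Prelude.Def_DRing3
import Mathlib.Algebra.Category.ModuleCat.Injective

/-! Soft modules: `Γ_I` of a complex of soft modules with torsion cohomology is quasi-isomorphic to it (helper3). -/

universe u

set_option linter.style.haveILetI false

open CategoryTheory Limits

namespace GrothLib.RGamma

variable {A : Type u} [CommRing A]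

/-- `Γ_J M → (Γ_J M)_f` is surjective for all `J` and `f`. -/
def IsSoft (M : Type u) [AddCommGroup M] [Module A M] : Prop :=
  ∀ (J : Ideal A) (f : A) (x : M), x ∈ DRing.torsionSub J M → ∀ n : ℕ,
    ∃ y ∈ DRing.torsionSub J M, ∃ m : ℕ, f ^ m • (f ^ n • y - x) = 0

theorem mem_torsionSub_iff (J : Ideal A) {M : Type u} [AddCommGroup M] [Module A M] (x : M) :
    x ∈ DRing.torsionSub J M ↔ ∃ n : ℕ, ∀ a ∈ J ^ n, a • x = 0 := Iff.rfl

theorem mem_torsionSub_singleton (f : A) {M : Type u} [AddCommGroup M] [Module A M] (x : M) :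
    x ∈ DRing.torsionSub (Ideal.span {f}) M ↔ ∃ n : ℕ, f ^ n • x = 0 := by
  constructor
  · rintro ⟨n, hn⟩
    exact ⟨n, hn _ (Ideal.pow_mem_pow (Ideal.mem_span_singleton_self f) n)⟩
  · rintro ⟨n, hn⟩
    refine ⟨n, fun r hr => ?_⟩
    rw [Ideal.span_singleton_pow, Ideal.mem_span_singleton] at hr
    obtain ⟨c, rfl⟩ := hr
    rw [mul_comm, mul_smul, hn, smul_zero]

theorem mem_torsionSub_subtype (K : Ideal A) {M : Type u} [AddCommGroup M] [Module A M]
    (N : Submodule A M) (x : N) : x ∈ DRing.torsionSub K N ↔ (x : M) ∈ DRing.torsionSub K M :=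
  ⟨fun ⟨n, hn⟩ => ⟨n, fun a ha => congrArg Subtype.val (hn a ha)⟩,
    fun ⟨n, hn⟩ => ⟨n, fun a ha => Subtype.ext (hn a ha)⟩⟩

theorem IsSoft.torsionSub {M : Type u} [AddCommGroup M] [Module A M] (h : IsSoft (A := A) M)
    (K : Ideal A) : IsSoft (A := A) (DRing.torsionSub K M) := by
  intro J f x hx n
  obtain ⟨y, hy, m, hm⟩ := h (K ⊔ J) f x.1
    ((LC.mem_torsionSub_sup_iff K J _).2 ⟨x.2, (mem_torsionSub_subtype J _ x).1 hx⟩) n
  have hy' := (LC.mem_torsionSub_sup_iff K J y).1 hy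
  exact ⟨⟨y, hy'.1⟩, (mem_torsionSub_subtype J _ _).2 hy'.2, m, Subtype.ext hm⟩

theorem isSoft_of_linearEquiv {M N : Type u} [AddCommGroup M] [Module A M] [AddCommGroup N] [Module A N]
    (e : M ≃ₗ[A] N) (h : IsSoft (A := A) M) : IsSoft (A := A) N := by
  intro J f x hx n
  obtain ⟨y, hy, m, hm⟩ := h J f (e.symm x) (DRing.map_mem_torsionSub J e.symm.toLinearMap hx) n
  refine ⟨e y, DRing.map_mem_torsionSub J e.toLinearMap hy, m, ?_⟩
  have := congrArg e hm
  simpa using this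

theorem isSoft_prod {M N : Type u} [AddCommGroup M] [Module A M] [AddCommGroup N] [Module A N]
    (hM : IsSoft (A := A) M) (hN : IsSoft (A := A) N) : IsSoft (A := A) (M × N) := by
  intro J f x hx n
  obtain ⟨y₁, hy₁, m₁, h₁⟩ := hM J f x.1 (DRing.map_mem_torsionSub J (LinearMap.fst A M N) hx) n
  obtain ⟨y₂, hy₂, m₂, h₂⟩ := hN J f x.2 (DRing.map_mem_torsionSub J (LinearMap.snd A M N) hx) n
  refine ⟨(y₁, y₂), ?_, m₁ + m₂, ?_⟩
  · have h1 := DRing.map_mem_torsionSub J (LinearMap.inl A M N) hy₁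
    have h2 := DRing.map_mem_torsionSub J (LinearMap.inr A M N) hy₂
    simpa using add_mem h1 h2
  · refine Prod.ext ?_ ?_
    · change f ^ (m₁ + m₂) • (f ^ n • y₁ - x.1) = 0
      rw [add_comm, pow_add, mul_smul, h₁, smul_zero]
    · change f ^ (m₁ + m₂) • (f ^ n • y₂ - x.2) = 0
      rw [pow_add, mul_smul, h₂, smul_zero]

theorem isSoft_of_injective [IsNoetherianRing A] (M : ModuleCat.{u} A) [Injective M] :
    IsSoft (A := A) M := by
  intro J f x hx n
  have hE : Module.Injective A M :=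
    haveI : Injective (ModuleCat.of A M) := ‹Injective M›
    Module.injective_module_of_injective_object A M
  haveI := hE
  have hT : Module.Injective A (DRing.torsionSub J M) :=
    InjMod.injective_of_mem_iff_powTorsion hE J _ fun _ => Iff.rfl
  haveI : Injective (ModuleCat.of A (DRing.torsionSub J M)) :=
    haveI := hT
    Module.injective_object_of_injective_module A _
  obtain ⟨σ, hσ, -⟩ := LC.exists_section f (ModuleCat.of A (DRing.torsionSub J M))
  let v : LocalizedModule (Submonoid.powers f) (DRing.torsionSub J M) :=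
    LocalizedModule.mk ⟨x, hx⟩ ⟨f ^ n, n, rfl⟩
  refine ⟨(σ v).1, (σ v).2, ?_⟩
  have h1 : LocalizedModule.mkLinearMap (Submonoid.powers f) _ (f ^ n • σ v - ⟨x, hx⟩) = 0 := by
    rw [map_sub, map_smul]
    have : LocalizedModule.mkLinearMap (Submonoid.powers f) _ (σ v) = v := LinearMap.congr_fun hσ v
    rw [this, LocalizedModule.smul'_mk, sub_eq_zero]
    exact LocalizedModule.mk_cancel (⟨f ^ n, n, rfl⟩ : Submonoid.powers f) _
  obtain ⟨⟨_, m, rfl⟩, hm⟩ := (IsLocalizedModule.eq_zero_iff (Submonoid.powers f) _).1 h1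
  exact ⟨m, congrArg Subtype.val hm⟩

section Complex

variable (C : CochainComplex (ModuleCat.{u} A) ℤ)

/-- Cohomology is `f`-power torsion, in terms of cocycles. -/
def TorsAt (f : A) : Prop :=
  ∀ i n : ℤ, i + 1 = n → ∀ x : C.X n, C.d n (n + 1) x = 0 → ∃ k : ℕ, ∃ w : C.X i, C.d i n w = f ^ k • x

/-- Every cocycle is cohomologous to a `Γ_J` one. -/
def SurjΓ (J : Ideal A) : Prop :=
  ∀ i n : ℤ, i + 1 = n → ∀ x : C.X n, C.d n (n + 1) x = 0 →
    ∃ y : C.X i, x - C.d i n y ∈ DRing.torsionSub J (C.X n)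

/-- A `Γ_J` coboundary is the coboundary of a `Γ_J` element. -/
def InjΓ (J : Ideal A) : Prop :=
  ∀ i n : ℤ, i + 1 = n → ∀ w : C.X i, C.d i n w ∈ DRing.torsionSub J (C.X n) →
    ∃ w' : C.X i, w' ∈ DRing.torsionSub J (C.X i) ∧ C.d i n w' = C.d i n w

variable {C}

theorem d_d_apply (i j k : ℤ) (x : C.X i) : C.d j k (C.d i j x) = 0 := by
  rw [← ConcreteCategory.comp_apply, HomologicalComplex.d_comp_d]
  rfl

theorem surjΓ_bot : SurjΓ C (⊥ : Ideal A) := fun _ _ _ _ _ =>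
  ⟨0, 1, fun a ha => by
    rw [pow_one, Ideal.mem_bot] at ha
    rw [ha, zero_smul]⟩

theorem injΓ_bot : InjΓ C (⊥ : Ideal A) := fun _ _ _ w _ =>
  ⟨w, ⟨1, fun a ha => by
    rw [pow_one, Ideal.mem_bot] at ha
    rw [ha, zero_smul]⟩, rfl⟩

theorem step (hC : ∀ n, IsSoft (A := A) (C.X n)) (J : Ideal A) (f : A) (hf : TorsAt C f)
    (hs : SurjΓ C J) (hi : InjΓ C J) :
    SurjΓ C (J ⊔ Ideal.span {f}) ∧ InjΓ C (J ⊔ Ideal.span {f}) := by
  have hmem : ∀ {n : ℤ} (x : C.X n), x ∈ DRing.torsionSub J (C.X n) → ∀ k : ℕ, f ^ k • x = 0 →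
      x ∈ DRing.torsionSub (J ⊔ Ideal.span {f}) (C.X n) := fun x hx k hk =>
    (LC.mem_torsionSub_sup_iff J _ x).2 ⟨hx, (mem_torsionSub_singleton f x).2 ⟨k, hk⟩⟩
  constructor
  · intro i n h x hx
    obtain ⟨y₀, hy₀⟩ := hs i n h x hx
    obtain ⟨k, w, hw⟩ := hf i n h (x - C.d i n y₀) (by rw [map_sub, hx, d_d_apply, sub_zero])
    obtain ⟨w', hw', hdw'⟩ := hi i n h w (hw ▸ Submodule.smul_mem _ _ hy₀)
    obtain ⟨y, hy, m, hm⟩ := hC i J f w' hw' k
    refine ⟨y₀ + y, ?_⟩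
    rw [map_add, ← sub_sub]
    refine hmem _ (sub_mem hy₀ (DRing.map_mem_torsionSub J (C.d i n).hom hy)) (m + k) ?_
    have h1 : f ^ m • (f ^ k • C.d i n y - C.d i n w') = 0 := by
      rw [← map_smul, ← map_sub, ← map_smul, hm, map_zero]
    rw [pow_add, mul_smul, smul_sub, ← hw, ← hdw', ← neg_sub, smul_neg, h1, neg_zero]
  · intro i n h w hw
    have hw2 := (LC.mem_torsionSub_sup_iff J _ _).1 hw
    obtain ⟨w₀, hw₀, hdw₀⟩ := hi i n h w hw2.1
    obtain ⟨m, hm⟩ := (mem_torsionSub_singleton f _).1 hw2.2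
    have hcoc : C.d i (i + 1) (f ^ m • w₀) = 0 := by
      subst h
      rw [map_smul, hdw₀, hm]
    obtain ⟨k, v, hv⟩ := hf (i - 1) i (sub_add_cancel i 1) (f ^ m • w₀) hcoc
    obtain ⟨v', hv', hdv'⟩ := hi (i - 1) i (sub_add_cancel i 1) v
      (hv ▸ Submodule.smul_mem _ _ (Submodule.smul_mem _ _ hw₀))
    obtain ⟨y, hy, j, hj⟩ := hC (i - 1) J f v' hv' (k + m)
    refine ⟨w₀ - C.d (i - 1) i y, hmem _ (sub_mem hw₀ (DRing.map_mem_torsionSub J (C.d _ i).hom hy))
      (j + (k + m)) ?_, by rw [map_sub, d_d_apply, sub_zero, hdw₀]⟩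
    have h1 : f ^ j • (f ^ (k + m) • C.d (i - 1) i y - C.d (i - 1) i v') = 0 := by
      rw [← map_smul, ← map_sub, ← map_smul, hj, map_zero]
    rw [pow_add, mul_smul, smul_sub, ← neg_sub, smul_neg]
    rw [show f ^ (k + m) • w₀ = C.d (i - 1) i v' by rw [hdv', hv, pow_add, mul_smul], h1, neg_zero]

theorem surj_inj_span (hC : ∀ n, IsSoft (A := A) (C.X n)) (s : Finset A) (hs : ∀ f ∈ s, TorsAt C f) :
    SurjΓ C (Ideal.span (s : Set A)) ∧ InjΓ C (Ideal.span (s : Set A)) := by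
  classical
  induction s using Finset.induction with
  | empty =>
    rw [Finset.coe_empty, Ideal.span_empty]
    exact ⟨surjΓ_bot, injΓ_bot⟩
  | insert a s _ ih =>
    rw [Finset.coe_insert, Ideal.span_insert, sup_comm]
    obtain ⟨h1, h2⟩ := ih fun f hf => hs f (Finset.mem_insert_of_mem hf)
    exact step hC _ a (hs a (Finset.mem_insert_self a s)) h1 h2

theorem torsAt_of_isPowerTorsion {I : Ideal A} (h : ∀ n, LocCoh.IsPowerTorsion I (C.homology n))
    {f : A} (hf : f ∈ I) : TorsAt C f := by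
  intro i n hin x hx
  obtain ⟨k, hk⟩ := h n (cls n x hx)
  exact ⟨k, (cls_eq_zero_iff hin _ (by rw [map_smul, hx, smul_zero])).1
    ((cls_smul _ x hx).trans (hk _ (Ideal.pow_mem_pow hf k)))⟩

/-- The inclusion `Γ_I C → C`. -/
noncomputable abbrev incl (I : Ideal A) (C : CochainComplex (ModuleCat.{u} A) ℤ) :
    ((DRing.gammaI I).mapHomologicalComplex (ComplexShape.up ℤ)).obj C ⟶ C :=
  (NatTrans.mapHomologicalComplex (DRing.gammaIι I) (ComplexShape.up ℤ)).app C ≫
    (Functor.mapHomologicalComplexIdIso (ModuleCat.{u} A) (ComplexShape.up ℤ)).hom.app C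

theorem incl_apply (I : Ideal A) (n : ℤ) (x : DRing.torsionSub I (C.X n)) : (incl I C).f n x = x.1 :=
  rfl

/-- `Γ_I C → C` is a quasi-isomorphism for soft complexes with torsion cohomology. -/
theorem quasiIso_incl (hC : ∀ n, IsSoft (A := A) (C.X n)) (I : Ideal A) (hI : I.FG)
    (h : ∀ n, LocCoh.IsPowerTorsion I (C.homology n)) : QuasiIso (incl I C) := by
  obtain ⟨s, hs⟩ := hI
  obtain ⟨h1, h2⟩ := surj_inj_span hC s fun f hf =>
    torsAt_of_isPowerTorsion h (show f ∈ I from hs ▸ Ideal.subset_span hf)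
  rw [show Ideal.span (s : Set A) = I from hs] at h1 h2
  refine (quasiIso_iff_cocycles _).2 ⟨fun i n hi y hy => ?_, fun i n hi x _ hw => ?_⟩
  · obtain ⟨w, hw⟩ := h1 i n hi y hy
    refine ⟨⟨y - C.d i n w, hw⟩, Subtype.ext ?_, -w, ?_⟩
    · change C.d n (n + 1) (y - C.d i n w) = 0
      rw [map_sub, hy, d_d_apply, sub_zero]
    · rw [incl_apply, map_neg]
      exact (sub_sub_cancel_left y _).symm
  · obtain ⟨w, hw⟩ := hw
    change C.d i n w = x.1 at hw
    obtain ⟨w', hw', hd⟩ := h2 i n hi w (hw ▸ x.2)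
    exact ⟨⟨w', hw'⟩, Subtype.ext (hd.trans hw)⟩

theorem isPowerTorsion_homology_gamma (I : Ideal A) (C : CochainComplex (ModuleCat.{u} A) ℤ) (n : ℤ) :
    LocCoh.IsPowerTorsion I
      ((((DRing.gammaI I).mapHomologicalComplex (ComplexShape.up ℤ)).obj C).homology n) := by
  intro c
  obtain ⟨x, hx, rfl⟩ := cls_surjective n c
  obtain ⟨k, hk⟩ := x.2
  refine ⟨k, fun a ha => ?_⟩
  rw [← cls_smul, cls_congr (show a • x = 0 from Subtype.ext (hk a ha))]
  exact (cls_eq_zero_iff (sub_add_cancel n 1) _ _).2 ⟨0, map_zero _⟩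

theorem exact_gamma (hC : ∀ n, IsSoft (A := A) (C.X n)) (I : Ideal A) (hI : I.FG)
    (h : ∀ n, C.ExactAt n) :
    ∀ n, (((DRing.gammaI I).mapHomologicalComplex (ComplexShape.up ℤ)).obj C).ExactAt n := by
  intro n
  have hz : ∀ m, IsZero (C.homology m) := fun m => (C.exactAt_iff_isZero_homology m).1 (h m)
  haveI := quasiIso_incl hC I hI fun m c => ⟨0, fun a _ =>
    (ModuleCat.subsingleton_of_isZero (hz m)).elim _ _⟩
  rw [HomologicalComplex.exactAt_iff_isZero_homology]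
  exact (hz n).of_iso (asIso (HomologicalComplex.homologyMap (incl I C) n))

end Complex

end GrothLib.RGamma
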